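import Cfsg.Agent.Lib.PowerOrbits.Basic
import Cfsg.Agent.Lib.Frobenius.UniqueSubgroup
import Cfsg.Agent.Lib.PGroup.RankTwoNormal
import Cfsg.Agent.S0519

/-!
# Linear groups with orbits of prime power size: the Sylow subgroup
-/

namespace CfsgLib.PowerOrbits

open Cfsg

set_option linter.unusedVariables false
set_option linter.style.haveILetI false
set_option linter.unusedSectionVars false

universe u v w

variable {H : Type u} [Group H] [Finite H] {k : Type w} [Field k]
  {V : Type v} [AddCommGroup V] [Module k V]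

/-- The vectors fixed by an element. -/
def fixedSpace (ρ : Representation k H V) (h : H) : Submodule k V :=
  LinearMap.ker (ρ h - LinearMap.id)

theorem mem_fixedSpace {ρ : Representation k H V} {h : H} {x : V} :
    x ∈ fixedSpace ρ h ↔ ρ h x = x := by
  simp [fixedSpace, LinearMap.mem_ker, sub_eq_zero]

theorem fixedSpace_conj {ρ : Representation k H V} {u h g : H} (e : u * h * u⁻¹ = g) {x : V}
    (hx : x ∈ fixedSpace ρ h) : ρ u x ∈ fixedSpace ρ g := by
  rw [mem_fixedSpace] at hx ⊢
  rw [← e, map_mul, map_mul, Module.End.mul_apply, Module.End.mul_apply, rho_inv_apply, hx]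

theorem fixedSpace_mul {ρ : Representation k H V} {a b : H} {x : V} (ha : ρ a x = x)
    (hb : ρ b x = x) : ρ (a * b) x = x := mem_stab.1 ((stab ρ x).mul_mem ha hb)

/-- In an irreducible faithful perfect group with orbits of `p`-power size, the abelian normal
subgroups of a Sylow `p`-subgroup are cyclic. -/
theorem abelian_normal_cyclic {p : ℕ} [Fact p.Prime] (hpk : (p : k) ≠ 0)
    {ρ : Representation k H V} (hinj : Function.Injective ρ) (hρ : PowerOrbit p ρ)
    (hperf : commutator H = ⊤) (P : Sylow p H)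
    (hirr : ∀ W : Submodule k V, (∀ u ∈ (P : Subgroup H), ∀ x ∈ W, ρ u x ∈ W) → W = ⊥ ∨ W = ⊤)
    [Nontrivial V] (A : Subgroup (P : Subgroup H)) (hAn : A.Normal) (hA : IsMulCommutative A) :
    IsCyclic A := by
  classical
  have hp : p.Prime := Fact.out
  have hP : IsPGroup p (P : Subgroup H) := P.2
  by_contra hnc
  haveI := hAn
  haveI := hA
  have hcomm : ∀ a ∈ A, ∀ b ∈ A, a * b = b * a := fun a ha b hb =>
    congrArg Subtype.val (hA.1.1 ⟨a, ha⟩ ⟨b, hb⟩)
  -- the elements of order dividing `p`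
  let W : Subgroup (P : Subgroup H) :=
    { carrier := {x | x ∈ A ∧ x ^ p = 1}
      one_mem' := ⟨A.one_mem, one_pow p⟩
      mul_mem' := fun {a b} ha hb => ⟨A.mul_mem ha.1 hb.1, by
        rw [(show Commute a b from hcomm a ha.1 b hb.1).mul_pow, ha.2, hb.2, one_mul]⟩
      inv_mem' := fun {a} ha => ⟨A.inv_mem ha.1, by rw [inv_pow, ha.2, inv_one]⟩ }
  haveI : W.Normal := ⟨fun x hx g => ⟨hAn.conj_mem x hx.1 g, by rw [conj_pow, hx.2]; group⟩⟩
  have hW : p ^ 2 ≤ Nat.card W := by
    by_contra hlt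
    push Not at hlt
    refine hnc (CfsgLib.Frob.UniqSub.cyclic_of_comm (hP.to_subgroup A) ?_)
    intro X Y hX hY
    have hX1 : ∀ (X : Subgroup A), Nat.card X = p → X.map A.subtype = W := by
      intro X hX
      refine Subgroup.eq_of_le_of_card_ge ?_ ?_
      · rintro _ ⟨x, hx, rfl⟩
        refine ⟨x.2, ?_⟩
        have h1 : x ^ p = 1 := by
          have : (⟨x, hx⟩ : X) ^ Nat.card X = 1 := pow_card_eq_one'
          rw [hX] at this
          exact congrArg Subtype.val this
        exact congrArg Subtype.val h1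
      · rw [Subgroup.card_map_of_injective A.subtype_injective, hX]
        obtain ⟨e, he⟩ := IsPGroup.iff_card.1 (hP.to_subgroup W)
        have : e < 2 := (Nat.pow_lt_pow_iff_right hp.one_lt).1 (he ▸ hlt)
        rw [he]
        calc p ^ e ≤ p ^ 1 := Nat.pow_le_pow_right hp.pos (by omega)
          _ = p := pow_one p
    exact Subgroup.map_injective A.subtype_injective ((hX1 X hX).trans (hX1 Y hY).symm)
  obtain ⟨E, hEn, hEW, hEc⟩ := CfsgLib.PGroupRankTwo.exists_normal_card hP W 2 hW
  haveI := hEn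
  haveI := hP.isNilpotent
  have hEpow : ∀ a ∈ E, a ^ p = 1 := fun a ha => (hEW ha).2
  have hEcomm : ∀ a ∈ E, ∀ b ∈ E, a * b = b * a := fun a ha b hb =>
    hcomm a (hEW ha).1 b (hEW hb).1
  obtain ⟨z, hzE, hzC, hz1⟩ : ∃ z, z ∈ E ∧ z ∈ Subgroup.center (P : Subgroup H) ∧ z ≠ 1 := by
    have hne : E ≠ ⊥ := fun e => by
      rw [e, Subgroup.card_bot] at hEc
      exact (Nat.one_lt_pow two_ne_zero hp.one_lt).ne hEc
    obtain ⟨z, hz, hz1⟩ := (Subgroup.bot_or_exists_ne_one _).resolve_left
      (CfsgLib.inf_center_ne_bot_of_nilpotent hne)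
    exact ⟨z, hz.1, hz.2, hz1⟩
  have hzo : orderOf z = p := orderOf_eq_prime (hEpow z hzE) hz1
  have hzcomm : ∀ u : (P : Subgroup H), u * z = z * u := fun u =>
    Subgroup.mem_center_iff.1 hzC u
  obtain ⟨e, heE, hez⟩ : ∃ e ∈ E, e ∉ Subgroup.zpowers z := by
    by_contra hno
    push Not at hno
    have := Subgroup.card_dvd_of_le (show E ≤ Subgroup.zpowers z from hno)
    rw [hEc, Nat.card_zpowers, hzo] at this
    have := Nat.le_of_dvd hp.pos this
    nlinarith [hp.two_le]
  have hzfix : ∀ x : V, ρ (z : H) x = x → x = 0 := by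
    intro x hx
    rcases hirr (fixedSpace ρ (z : H)) (fun u hu y hy => fixedSpace_conj (h := (z : H)) (by
        have := congrArg Subtype.val (hzcomm ⟨u, hu⟩)
        simp only [Subgroup.coe_mul] at this
        rw [this]; group) hy) with h | h
    · exact (Submodule.mem_bot k).1 (h ▸ mem_fixedSpace.2 hx)
    · exfalso
      apply hz1
      apply Subtype.ext
      apply hinj
      rw [Subgroup.coe_one, map_one]
      exact LinearMap.ext fun y => mem_fixedSpace.1 (h ▸ Submodule.mem_top)
  -- the subgroups of order `p` different from the central one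
  set f : ZMod p → H := fun i => ((e * z ^ i.val : (P : Subgroup H)) : H) with hfdef
  have hzpow : ∀ m n : ℕ, (m : ZMod p) = n → z ^ m = z ^ n := fun m n h => by
    rw [pow_eq_pow_iff_modEq, hzo]
    exact (ZMod.natCast_eq_natCast_iff m n p).1 h
  have hez' : Commute e z := hzcomm e
  haveI : NeZero p := ⟨hp.ne_zero⟩
  have hzf : ∀ i j : ZMod p, i ≠ j → ∀ x : V, ρ (f i) x = x → ρ (f j) x = x → x = 0 := by
    intro i j hij x hi hj
    have h1 : ρ ((f j)⁻¹ * f i) x = x := by
      rw [map_mul, Module.End.mul_apply, hi]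
      conv_lhs => rw [← hj]
      rw [rho_inv_apply]
    have h2 : (f j)⁻¹ * f i = ((z ^ (i - j).val : (P : Subgroup H)) : H) := by
      rw [hfdef]
      simp only [← Subgroup.coe_inv, ← Subgroup.coe_mul]
      congr 1
      rw [mul_inv_rev, mul_assoc, inv_mul_cancel_left, inv_mul_eq_iff_eq_mul, ← pow_add]
      refine hzpow _ _ ?_
      push_cast
      simp only [ZMod.natCast_val, ZMod.cast_id', id_eq]
      ring
    rw [h2] at h1
    have hne : ((i - j).val : ZMod p) ≠ 0 := by
      rw [ZMod.natCast_val, ZMod.cast_id', id_eq]; exact sub_ne_zero.2 hij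
    refine hzfix x ?_
    have e1 : z = (z ^ (i - j).val) ^ ((i - j)⁻¹ : ZMod p).val := by
      rw [← pow_mul]
      conv_lhs => rw [← pow_one z]
      refine hzpow _ _ ?_
      push_cast
      simp only [ZMod.natCast_val, ZMod.cast_id', id_eq]
      rw [mul_inv_cancel₀ (sub_ne_zero.2 hij)]
    rw [e1, Subgroup.coe_pow]
    exact mem_stab.1 ((stab ρ x).pow_mem h1 _)
  let S : ZMod p → V →ₗ[k] V := fun i => ∑ t ∈ Finset.range p, ρ ((f i) ^ t)
  let π : ZMod p → V →ₗ[k] V := fun i => (p : k)⁻¹ • S i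
  have hSfix : ∀ i x, ρ (f i) (S i x) = S i x := by
    intro i x
    have hfp : (f i) ^ p = 1 := by
      rw [hfdef]
      simp only [← Subgroup.coe_pow]
      rw [hez'.pow_right _ |>.mul_pow, hEpow e heE, ← pow_mul, mul_comm, pow_mul, hEpow z hzE,
        one_pow, one_mul, Subgroup.coe_one]
    simp only [S, LinearMap.sum_apply, map_sum]
    have e1 : ∀ t, ρ (f i) (ρ ((f i) ^ t) x) = ρ ((f i) ^ (t + 1)) x := fun t => by
      rw [pow_succ', map_mul, Module.End.mul_apply]
    simp only [e1]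
    obtain ⟨q, hq⟩ : ∃ q, p = q + 1 := ⟨p - 1, by have := hp.pos; omega⟩
    rw [hq, Finset.sum_range_succ, Finset.sum_range_succ']
    rw [← hq, hfp, pow_zero]
  have hπ : ∀ i, ∀ x ∈ fixedSpace ρ (f i), π i x = x := by
    intro i x hx
    have hall : ∀ t : ℕ, ρ ((f i) ^ t) x = x := fun t =>
      mem_stab.1 ((stab ρ x).pow_mem (mem_fixedSpace.1 hx) t)
    simp only [π, S, LinearMap.smul_apply, LinearMap.sum_apply, hall, Finset.sum_const,
      Finset.card_range]
    rw [← Nat.cast_smul_eq_nsmul k p x, inv_smul_smul₀ hpk]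
  have hfcomm : ∀ i j, Commute (f i) (f j) := fun i j => by
    have hmem : ∀ n : ℕ, e * z ^ n ∈ E := fun n => E.mul_mem heE (E.pow_mem hzE n)
    exact congrArg Subtype.val (hEcomm _ (hmem i.val) _ (hmem j.val))
  have hπ' : ∀ i j, i ≠ j → ∀ x ∈ fixedSpace ρ (f j), π i x = 0 := by
    intro i j hij x hx
    have h1 : S i x = 0 := by
      refine hzf i j hij _ (hSfix i x) ?_
      simp only [S, LinearMap.sum_apply, map_sum]
      refine Finset.sum_congr rfl fun t _ => ?_
      rw [← Module.End.mul_apply, ← map_mul, ((hfcomm j i).pow_right t).eq, map_mul,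
        Module.End.mul_apply, mem_fixedSpace.1 hx]
    simp only [π, LinearMap.smul_apply, h1, smul_zero]
  -- some fixed space is nonzero
  have hex : ∃ i, fixedSpace ρ (f i) ≠ ⊥ := by
    by_contra hno
    push Not at hno
    obtain ⟨x, hx⟩ := exists_ne (0 : V)
    have hzero : ∀ i, S i x = 0 := fun i =>
      (Submodule.mem_bot k).1 (hno i ▸ mem_fixedSpace.2 (hSfix i x))
    have hzsum : ∀ t, t ∈ Finset.range p → t ≠ 0 →
        ∑ i : ZMod p, ρ ((f i) ^ t) x = 0 := by
      intro t ht ht0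
      refine hzfix _ ?_
      rw [map_sum]
      have ht' : (t : ZMod p) ≠ 0 := by
        rw [Ne, ZMod.natCast_eq_zero_iff]
        exact fun hd => absurd (Nat.le_of_dvd (Nat.pos_of_ne_zero ht0) hd)
          (not_le.2 (Finset.mem_range.1 ht))
      refine Fintype.sum_equiv (Equiv.addRight ((t : ZMod p)⁻¹)) _ _ fun i => ?_
      rw [← Module.End.mul_apply, ← map_mul]
      congr 2
      rw [hfdef]
      simp only [← Subgroup.coe_pow, ← Subgroup.coe_mul]
      congr 1
      rw [(hez'.pow_right _).mul_pow, (hez'.pow_right _).mul_pow, ← mul_assoc,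
        ← (hzcomm (e ^ t)), mul_assoc, ← pow_mul, ← pow_mul]
      conv_lhs => rw [← pow_succ']
      congr 1
      refine hzpow _ _ ?_
      simp only [Equiv.coe_addRight]
      push_cast
      simp only [ZMod.natCast_val, ZMod.cast_id', id_eq]
      rw [add_mul, inv_mul_cancel₀ ht']
    have htot : ∑ i : ZMod p, S i x = 0 := Finset.sum_eq_zero fun i _ => hzero i
    simp only [S, LinearMap.sum_apply] at htot
    rw [Finset.sum_comm, Finset.sum_eq_single 0 (fun t ht ht0 => hzsum t ht ht0)
      (fun h => absurd (Finset.mem_range.2 hp.pos) h)] at htot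
    simp only [pow_zero, map_one, Module.End.one_apply, Finset.sum_const, Finset.card_univ,
      ZMod.card] at htot
    rw [← Nat.cast_smul_eq_nsmul k p x, smul_eq_zero] at htot
    exact hx (htot.resolve_left hpk)
  obtain ⟨i0, hi0⟩ := hex
  -- conjugation translates the index
  have hconj : ∀ u : (P : Subgroup H), ∃ c : ZMod p, ∀ i : ZMod p,
      (u : H) * f i * (u : H)⁻¹ = f (i + c) := by
    intro u
    have hcard : Nat.card E = Nat.card (Subgroup.zpowers z) * p := by
      rw [hEc, Nat.card_zpowers, hzo, pow_two]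
    haveI : (Subgroup.zpowers z).Normal := ⟨fun a ha g => by
      obtain ⟨n, rfl⟩ := ha
      rw [((show Commute g z from hzcomm g).zpow_right n).eq, mul_inv_cancel_right]
      exact ⟨n, rfl⟩⟩
    have h := CfsgLib.PGroupRankTwo.step_central hP (Subgroup.zpowers_le.2 hzE) hcard u heE
    obtain ⟨n, hn⟩ := (mem_powers_iff_mem_zpowers.2 h)
    have hn' : z ^ n = e⁻¹ * (u * e * u⁻¹) := hn
    refine ⟨(n : ZMod p), fun i => ?_⟩
    rw [hfdef]
    simp only [← Subgroup.coe_inv, ← Subgroup.coe_mul]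
    congr 1
    calc u * (e * z ^ i.val) * u⁻¹ = (u * e * u⁻¹) * (u * z ^ i.val * u⁻¹) := by group
      _ = (e * z ^ n) * z ^ i.val := by
          rw [hn', mul_inv_cancel_left, ((show Commute u z from hzcomm u).pow_right _).eq,
            mul_inv_cancel_right]
      _ = e * z ^ (i + (n : ZMod p)).val := by
          rw [mul_assoc, ← pow_add]
          congr 1
          refine hzpow _ _ ?_
          push_cast
          simp only [ZMod.natCast_val, ZMod.cast_id', id_eq]
          ring
  by_cases hcen : ∀ u : (P : Subgroup H), ∀ i, (u : H) * f i * (u : H)⁻¹ = f i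
  · rcases hirr (fixedSpace ρ (f i0)) (fun u hu y hy => fixedSpace_conj (hcen ⟨u, hu⟩ i0) hy)
      with h | h
    · exact hi0 h
    · obtain ⟨j, hj⟩ : ∃ j : ZMod p, j ≠ i0 := exists_ne i0
      obtain ⟨x, hx⟩ := exists_ne (0 : V)
      have h1 : ρ (f i0) = 1 := LinearMap.ext fun y => mem_fixedSpace.1 (h ▸ Submodule.mem_top)
      have h2 : f i0 = 1 := hinj (h1.trans (map_one ρ).symm)
      rw [hfdef] at h2
      have h3 : e * z ^ i0.val = 1 := Subtype.ext h2
      exact hez (eq_inv_of_mul_eq_one_left h3 ▸ inv_mem (pow_mem (Subgroup.mem_zpowers z) _))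
  push Not at hcen
  obtain ⟨u0, i1, hu0⟩ := hcen
  obtain ⟨c, hc⟩ := hconj u0
  have hc0 : c ≠ 0 := fun e0 => hu0 (by rw [hc i1, e0, add_zero])
  have hpowc : ∀ n : ℕ, ∀ i, ((u0 ^ n : (P : Subgroup H)) : H) * f i *
      ((u0 ^ n : (P : Subgroup H)) : H)⁻¹ = f (i + n • c) := by
    intro n
    induction n with
    | zero => intro i; simp
    | succ n ih =>
      intro i
      rw [pow_succ', Subgroup.coe_mul, succ_nsmul, ← add_assoc, ← hc (i + n • c), ← ih i]
      group
  have htr : ∀ i j : ZMod p, ∃ u ∈ (P : Subgroup H), ∀ x ∈ fixedSpace ρ (f i),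
      ρ u x ∈ fixedSpace ρ (f j) := by
    intro i j
    refine ⟨_, (u0 ^ (((j - i) * c⁻¹ : ZMod p)).val).2, fun x hx => fixedSpace_conj ?_ hx⟩
    rw [hpowc, nsmul_eq_mul, ZMod.natCast_val, ZMod.cast_id', id_eq, inv_mul_cancel_right₀ hc0,
      add_sub_cancel]
  refine no_blocks hρ hperf P (ι := ZMod p) (ZMod.card p) (fun i => fixedSpace ρ (f i)) π hπ hπ'
    (fun i hbot => ?_) (fun u hu i => ?_) htr
  · obtain ⟨u, -, hu⟩ := htr i0 i
    obtain ⟨x, hx, hx0⟩ := Submodule.exists_mem_ne_zero_of_ne_bot hi0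
    exact hx0 (rho_injective ρ u (((Submodule.mem_bot k).1 (hbot ▸ hu x hx)).trans (map_zero _).symm))
  · obtain ⟨c, hc⟩ := hconj ⟨u, hu⟩
    exact ⟨i + c, fun x hx => fixedSpace_conj (hc i) hx⟩

/-- A `p`-group whose abelian normal subgroups are cyclic is cyclic or has a cyclic subgroup of
index two on which an element acts by an exponent congruent to three modulo four. -/
theorem cyclic_or_two {P : Type u} [Group P] [Finite P] {p : ℕ} [Fact p.Prime] (hP : IsPGroup p P)
    (hn : ∀ A : Subgroup P, A.Normal → IsMulCommutative A → IsCyclic A) :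
    IsCyclic P ∨ p = 2 ∧ ∃ (c x : P) (j : ℕ), Nat.card P = 2 * orderOf c ∧ 4 ∣ orderOf c ∧
      j % 4 = 3 ∧ x * c * x⁻¹ = c ^ j := by
  classical
  have hp : p.Prime := Fact.out
  by_cases hcyc : IsCyclic P
  · exact Or.inl hcyc
  right
  have hquat : p = 2 → ∀ n : ℕ, Nonempty (P ≃* QuaternionGroup n) →
      p = 2 ∧ ∃ (c x : P) (j : ℕ), Nat.card P = 2 * orderOf c ∧ 4 ∣ orderOf c ∧
        j % 4 = 3 ∧ x * c * x⁻¹ = c ^ j := by
    rintro hp2 n ⟨e⟩
    subst hp2
    have hn0 : n ≠ 0 := by
      rintro rfl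
      have : Infinite (QuaternionGroup 0) :=
        Infinite.of_injective (fun m : ℤ => (QuaternionGroup.a m : QuaternionGroup 0))
          fun a b h => by injection h
      exact Infinite.not_finite (α := QuaternionGroup 0) (Finite.of_equiv P e.toEquiv)
    haveI : NeZero n := ⟨hn0⟩
    have hcard : Nat.card P = 4 * n := by
      rw [Nat.card_congr e.toEquiv, Nat.card_eq_fintype_card, QuaternionGroup.card]
    obtain ⟨s, hs⟩ := IsPGroup.iff_card.1 hP
    rw [hcard] at hs
    obtain ⟨t, -, ht⟩ : ∃ t, t ≤ s ∧ n = 2 ^ t :=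
      (Nat.dvd_prime_pow Nat.prime_two).1 ⟨4, by rw [← hs]; ring⟩
    have ht0 : t ≠ 0 := by
      rintro rfl
      refine hcyc (isCyclic_of_orderOf_eq_card (e.symm (QuaternionGroup.xa 0)) ?_)
      rw [MulEquiv.orderOf_eq, QuaternionGroup.orderOf_xa, hcard, ht]
      norm_num
    obtain ⟨m, hm⟩ : 2 ∣ n := ht ▸ dvd_pow_self 2 ht0
    refine ⟨rfl, e.symm (QuaternionGroup.a 1), e.symm (QuaternionGroup.xa 0), 2 * n - 1,
      ?_, ?_, ?_, ?_⟩
    · rw [MulEquiv.orderOf_eq, QuaternionGroup.orderOf_a_one, hcard]; ring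
    · rw [MulEquiv.orderOf_eq, QuaternionGroup.orderOf_a_one]; exact ⟨m, by omega⟩
    · omega
    · apply e.injective
      rw [map_mul, map_mul, map_inv, map_pow, e.apply_symm_apply, e.apply_symm_apply,
        QuaternionGroup.a_one_pow]
      rw [mul_inv_eq_iff_eq_mul, QuaternionGroup.xa_mul_a, QuaternionGroup.a_mul_xa,
        Nat.cast_sub (by omega), ZMod.natCast_self, Nat.cast_one]
      simp
  by_cases hB : ∃ B : Subgroup P, IsMulCommutative B ∧ ¬ IsCyclic B
  · obtain ⟨hp2, h⟩ := Cfsg.Agent.S0519.result p hP hn hB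
    subst hp2
    rcases h with ⟨n, hq⟩ | ⟨n, hn8, ⟨e⟩⟩ | hQD
    · exact hquat rfl n hq
    · have hcard : Nat.card P = 2 * n := by
        rw [Nat.card_congr e.toEquiv, DihedralGroup.nat_card]
      obtain ⟨s, hs⟩ := IsPGroup.iff_card.1 hP
      rw [hcard] at hs
      obtain ⟨t, -, ht⟩ : ∃ t, t ≤ s ∧ n = 2 ^ t :=
        (Nat.dvd_prime_pow Nat.prime_two).1 ⟨2, by rw [← hs]; ring⟩
      have ht2 : 2 ≤ t := by
        by_contra hc
        interval_cases t <;> omega
      obtain ⟨m, hm⟩ : 4 ∣ n := ht ▸ (pow_dvd_pow 2 ht2)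
      refine ⟨rfl, e.symm (DihedralGroup.r 1), e.symm (DihedralGroup.sr 0), n - 1, ?_, ?_, ?_, ?_⟩
      · rw [MulEquiv.orderOf_eq, DihedralGroup.orderOf_r_one, hcard]
      · rw [MulEquiv.orderOf_eq, DihedralGroup.orderOf_r_one]; exact ⟨m, hm⟩
      · omega
      · apply e.injective
        rw [map_mul, map_mul, map_inv, map_pow, e.apply_symm_apply, e.apply_symm_apply,
          DihedralGroup.r_one_pow]
        rw [mul_inv_eq_iff_eq_mul, DihedralGroup.sr_mul_r, DihedralGroup.r_mul_sr,
          Nat.cast_sub (by omega), ZMod.natCast_self, Nat.cast_one]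
        simp
    · obtain ⟨n, hn3, hcard, c, y, hc, -, hconj⟩ := hQD
      refine ⟨rfl, c, y, 2 ^ (n - 1) - 1, ?_, ?_, ?_, hconj⟩
      · rw [hcard, hc, pow_succ, mul_comm]
      · rw [hc]; exact pow_dvd_pow 2 (show 2 ≤ n by omega)
      · obtain ⟨m, hm⟩ : 4 ∣ 2 ^ (n - 1) := pow_dvd_pow 2 (show 2 ≤ n - 1 by omega)
        have := Nat.two_pow_pos (n - 1)
        omega
  push Not at hB
  have hu : CfsgLib.Frob.UniqSub p P := by
    have hne : Nontrivial P := by
      by_contra hc
      rw [not_nontrivial_iff_subsingleton] at hc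
      exact hcyc inferInstance
    haveI := hP.center_nontrivial
    obtain ⟨z, hz⟩ := exists_prime_orderOf_dvd_card' (G := Subgroup.center P) p (by
      obtain ⟨s, hs⟩ := IsPGroup.iff_card.1 (hP.to_subgroup (Subgroup.center P))
      rcases Nat.eq_zero_or_pos s with rfl | hs0
      · rw [pow_zero] at hs
        exact absurd hs (Finite.one_lt_card (α := Subgroup.center P)).ne'
      · rw [hs]; exact dvd_pow_self p hs0.ne')
    suffices hall : ∀ X : Subgroup P, Nat.card X = p → X = Subgroup.zpowers (z : P) from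
      fun X Y hX hY => (hall X hX).trans (hall Y hY).symm
    intro X hX
    haveI : IsCyclic X := isCyclic_of_prime_card hX
    have hzcard : Nat.card (Subgroup.zpowers (z : P)) = p := by
      rw [Nat.card_zpowers, Subgroup.orderOf_coe, hz]
    set B := X ⊔ Subgroup.zpowers (z : P) with hBdef
    haveI : IsMulCommutative B := by
      rw [hBdef, ← Subgroup.closure_eq X, Subgroup.zpowers_eq_closure, ← Subgroup.closure_union]
      refine Subgroup.isMulCommutative_closure ?_
      have hzc : ∀ g : P, g * (z : P) = z * g := Subgroup.mem_center_iff.1 z.2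
      rintro a (ha | ha) b (hb | hb)
      · exact congrArg Subtype.val (IsCyclic.isMulCommutative.1.1 (⟨a, ha⟩ : X) ⟨b, hb⟩)
      · rw [Set.mem_singleton_iff.1 hb]; exact hzc a
      · rw [Set.mem_singleton_iff.1 ha]; exact (hzc b).symm
      · rw [Set.mem_singleton_iff.1 ha, Set.mem_singleton_iff.1 hb]
    haveI := hB B inferInstance
    refine Subgroup.eq_of_le_of_card_ge (fun x hx => ?_) (by rw [hX, hzcard])
    have hz1 : (⟨(z : P), Subgroup.mem_sup_right (Subgroup.mem_zpowers _)⟩ : B) ≠ 1 := fun h => by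
      have h1 : z = 1 := Subtype.ext (congrArg Subtype.val h :)
      rw [h1, orderOf_one] at hz
      exact hp.one_lt.ne hz
    have hzp : ((z : P)) ^ p = 1 := by
      rw [← hz, ← Subgroup.orderOf_coe, pow_orderOf_eq_one]
    have hxp : x ^ p = 1 := by
      have h1 : (⟨x, hx⟩ : X) ^ Nat.card X = 1 := pow_card_eq_one'
      rw [hX] at h1
      exact congrArg Subtype.val h1
    obtain ⟨l, hl⟩ := CfsgLib.Metacyclic.mem_zpowers_of_isCyclic (p := p)
      (a := (⟨(z : P), Subgroup.mem_sup_right (Subgroup.mem_zpowers _)⟩ : B))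
      (b := ⟨x, Subgroup.mem_sup_left hx⟩) (Subtype.ext hzp) hz1 (Subtype.ext hxp)
    exact ⟨l, congrArg Subtype.val hl⟩
  rcases eq_or_ne p 2 with hp2 | hp2
  · subst hp2
    obtain ⟨n, hn'⟩ := (CfsgLib.Frob.cyclic_or_quaternion_two hP hu).resolve_left hcyc
    exact hquat rfl _ hn'
  · exact absurd (CfsgLib.Frob.isCyclic_of_uniq_odd hp2 hP hu) hcyc

end CfsgLib.PowerOrbits
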