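import Cfsg.Agent.Lib.KazarinSolvable
import Cfsg.Agent.S0675

/-!
# Linear groups all of whose orbits have prime power size: basic lemmas and systems of blocks
-/

namespace CfsgLib.PowerOrbits

open Cfsg

set_option linter.unusedVariables false
set_option linter.style.haveILetI false
set_option linter.unusedSectionVars false

universe u v w

variable {H : Type u} [Group H] [Finite H] {k : Type w} [Field k]
  {V : Type v} [AddCommGroup V] [Module k V]

/-- The stabiliser of a vector. -/
def stab (ρ : Representation k H V) (x : V) : Subgroup H where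
  carrier := {h | ρ h x = x}
  one_mem' := by simp
  mul_mem' := fun {a b} ha hb => by
    show ρ (a * b) x = x
    rw [map_mul, Module.End.mul_apply, show ρ b x = x from hb, show ρ a x = x from ha]
  inv_mem' := fun {a} ha => by
    show ρ a⁻¹ x = x
    conv_lhs => rw [← show ρ a x = x from ha]
    rw [← Module.End.mul_apply, ← map_mul, inv_mul_cancel, map_one, Module.End.one_apply]

theorem mem_stab {ρ : Representation k H V} {x : V} {h : H} : h ∈ stab ρ x ↔ ρ h x = x := Iff.rfl

/-- All orbits have `p`-power size. -/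
def PowerOrbit (p : ℕ) (ρ : Representation k H V) : Prop :=
  ∀ x : V, ∃ a : ℕ, (stab ρ x).index = p ^ a

theorem rho_inv_apply (ρ : Representation k H V) (h : H) (x : V) : ρ h⁻¹ (ρ h x) = x := by
  rw [← Module.End.mul_apply, ← map_mul, inv_mul_cancel, map_one, Module.End.one_apply]

theorem rho_apply_inv (ρ : Representation k H V) (h : H) (x : V) : ρ h (ρ h⁻¹ x) = x := by
  rw [← Module.End.mul_apply, ← map_mul, mul_inv_cancel, map_one, Module.End.one_apply]

theorem rho_injective (ρ : Representation k H V) (h : H) : Function.Injective (ρ h) :=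
  fun a b e => by rw [← rho_inv_apply ρ h a, e, rho_inv_apply]

theorem restrict {p : ℕ} (hp : p.Prime) {ρ : Representation k H V} (hρ : PowerOrbit p ρ)
    (K : Subgroup H) [K.Normal] : PowerOrbit p (ρ.comp K.subtype) := by
  intro x
  obtain ⟨a, ha⟩ := hρ x
  have e : stab (ρ.comp K.subtype) x = (stab ρ x).subgroupOf K := Subgroup.ext fun h => Iff.rfl
  obtain ⟨b, -, hb⟩ := (Nat.dvd_prime_pow hp).1
    (ha ▸ CfsgLib.Kazarin.relIndex_dvd_index (N := K) (stab ρ x))
  exact ⟨b, by rw [e]; exact hb⟩

/-- Orbits of the group are orbits of a Sylow subgroup. -/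
theorem factor {p : ℕ} [Fact p.Prime] {ρ : Representation k H V} (hρ : PowerOrbit p ρ)
    (P : Sylow p H) (h : H) (x : V) : ∃ u ∈ (P : Subgroup H), ρ h x = ρ u x := by
  obtain ⟨a, ha⟩ := hρ x
  obtain ⟨c, hc, u, hu, rfl⟩ := CfsgLib.CopClass.exists_eq_mul
    (A := stab ρ x) (B := (P : Subgroup H))
    (by rw [ha]
        exact Nat.Coprime.pow_left a (((Fact.out : p.Prime).coprime_iff_not_dvd).2 P.not_dvd_index)) h
  refine ⟨u, hu, ?_⟩
  rw [map_mul, Module.End.mul_apply, mem_stab.1 hc]

theorem invariant_of_sylow {p : ℕ} [Fact p.Prime] {ρ : Representation k H V} (hρ : PowerOrbit p ρ)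
    (P : Sylow p H) (W : Submodule k V) (hW : ∀ u ∈ (P : Subgroup H), ∀ x ∈ W, ρ u x ∈ W) :
    ∀ h : H, ∀ x ∈ W, ρ h x ∈ W := by
  intro h x hx
  obtain ⟨u, hu, e⟩ := factor hρ P h x
  exact e ▸ hW u hu x hx

/-- A normal subgroup of order a power of a prime different from `p` acts trivially. -/
theorem eq_bot_of_isPGroup {p r : ℕ} (hp : p.Prime) (hr : r.Prime) (hrp : r ≠ p)
    {ρ : Representation k H V} (hinj : Function.Injective ρ) (hρ : PowerOrbit p ρ)
    (R : Subgroup H) [R.Normal] (hR : IsPGroup r R) : R = ⊥ := by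
  haveI := Fact.mk hr
  rw [Subgroup.eq_bot_iff_forall]
  intro h hh
  apply hinj
  rw [map_one]
  refine LinearMap.ext fun x => ?_
  obtain ⟨a, ha⟩ := hρ x
  obtain ⟨e, he⟩ := IsPGroup.iff_card.1 hR
  have h1 : (stab ρ x).relIndex R = 1 := Nat.eq_one_of_dvd_coprimes
    (Nat.Coprime.pow a e ((Nat.coprime_primes hp hr).2 (Ne.symm hrp)))
    (ha ▸ CfsgLib.Kazarin.relIndex_dvd_index _) (he ▸ Subgroup.index_dvd_card _)
  exact mem_stab.1 (Subgroup.relIndex_eq_one.1 h1 hh)

theorem isSolvable_of_card_le_three {α : Type*} [Fintype α] [DecidableEq α]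
    (h : Fintype.card α ≤ 3) : Group.IsSolvable (Equiv.Perm α) := by
  haveI hA : Group.IsSolvable (alternatingGroup α) := by
    rcases subsingleton_or_nontrivial α with hs | hn
    · haveI : Subsingleton (Equiv.Perm α) := ⟨fun a b => Equiv.ext fun x => Subsingleton.elim _ _⟩
      infer_instance
    have h2 := two_mul_card_alternatingGroup (α := α)
    rw [Fintype.card_perm] at h2
    have hα : Fintype.card α = 2 ∨ Fintype.card α = 3 := by
      have := Fintype.one_lt_card (α := α); omega
    have hc : Nat.card (alternatingGroup α) ∣ 3 := by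
      rw [Nat.card_eq_fintype_card]
      rcases hα with e | e <;> rw [e] at h2
      · rw [show Nat.factorial 2 = 2 from rfl] at h2
        rw [show Fintype.card (alternatingGroup α) = 1 by omega]; norm_num
      · rw [show Nat.factorial 3 = 6 from rfl] at h2
        rw [show Fintype.card (alternatingGroup α) = 3 by omega]
    rcases (Nat.dvd_prime Nat.prime_three).1 hc with e | e
    · haveI := (Nat.card_eq_one_iff_unique.1 e).1
      infer_instance
    · haveI := Fact.mk Nat.prime_three
      haveI := (IsPGroup.of_card (p := 3) (n := 1) (by rw [e, pow_one]) :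
        IsPGroup 3 (alternatingGroup α)).isNilpotent
      infer_instance
  exact Group.isSolvable_of_ker_le_range (alternatingGroup α).subtype Equiv.Perm.sign
    (by rw [Subgroup.range_subtype]; exact le_of_eq rfl)

/-- A perfect group with all orbits of `p`-power size has no system of `p` blocks permuted
transitively by a Sylow `p`-subgroup. -/
theorem no_blocks {p : ℕ} [Fact p.Prime] {ρ : Representation k H V} (hρ : PowerOrbit p ρ)
    (hperf : commutator H = ⊤) (P : Sylow p H) {ι : Type} [Fintype ι] [DecidableEq ι]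
    (hι : Fintype.card ι = p) (W : ι → Submodule k V) (π : ι → V →ₗ[k] V)
    (hπ : ∀ i, ∀ x ∈ W i, π i x = x) (hπ' : ∀ i j, i ≠ j → ∀ x ∈ W j, π i x = 0)
    (hW : ∀ i, W i ≠ ⊥)
    (hperm : ∀ u ∈ (P : Subgroup H), ∀ i, ∃ j, ∀ x ∈ W i, ρ u x ∈ W j)
    (htrans : ∀ i j, ∃ u ∈ (P : Subgroup H), ∀ x ∈ W i, ρ u x ∈ W j) : False := by
  classical
  have hp : p.Prime := Fact.out
  have hsep : ∀ {i j : ι} {x : V}, x ∈ W i → x ∈ W j → x ≠ 0 → i = j := by
    intro i j x hi hj hx
    by_contra hne
    exact hx ((hπ i x hi).symm.trans (hπ' i j hne x hj))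
  have hex : ∀ i, ∃ x ∈ W i, x ≠ 0 := fun i => Submodule.exists_mem_ne_zero_of_ne_bot (hW i)
  -- the whole group permutes the blocks
  have hH : ∀ (h : H) i, ∃ j, ∀ x ∈ W i, ρ h x ∈ W j := by
    intro h i
    have hmem : ∀ x ∈ W i, ∃ j, ρ h x ∈ W j := by
      intro x hx
      obtain ⟨u, hu, e⟩ := factor hρ P h x
      obtain ⟨j, hj⟩ := hperm u hu i
      exact ⟨j, e ▸ hj x hx⟩
    obtain ⟨x0, hx0, hx00⟩ := hex i
    obtain ⟨j, hj⟩ := hmem x0 hx0
    refine ⟨j, fun x hx => ?_⟩
    obtain ⟨l, hl⟩ := hmem x hx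
    by_cases hlj : l = j
    · exact hlj ▸ hl
    by_cases hx' : x = 0
    · subst hx'
      rw [map_zero]
      exact zero_mem _
    exfalso
    obtain ⟨m, hm⟩ := hmem (x0 + x) (add_mem hx0 hx)
    rw [map_add] at hm
    have hne1 : ρ h x ≠ 0 := fun e => hx' (rho_injective ρ h (e.trans (map_zero _).symm))
    have hne0 : ρ h x0 ≠ 0 := fun e => hx00 (rho_injective ρ h (e.trans (map_zero _).symm))
    have h1 : m = j := by
      by_contra hmj
      have := hπ' j m (Ne.symm hmj) _ hm
      rw [map_add, hπ j _ hj, hπ' j l (Ne.symm hlj) _ hl, add_zero] at this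
      exact hne0 this
    have h2 : m = l := by
      by_contra hml
      have := hπ' l m (Ne.symm hml) _ hm
      rw [map_add, hπ l _ hl, hπ' l j hlj _ hj, zero_add] at this
      exact hne1 this
    exact hlj (h2.symm.trans h1)
  choose σ hσ using hH
  have huniq : ∀ (h : H) (i j : ι), (∀ x ∈ W i, ρ h x ∈ W j) → σ h i = j := by
    intro h i j hj
    obtain ⟨x0, hx0, hx00⟩ := hex i
    exact hsep (hσ h i x0 hx0) (hj x0 hx0)
      fun e => hx00 (rho_injective ρ h (e.trans (map_zero _).symm))
  have hσmul : ∀ (g h : H) i, σ (g * h) i = σ g (σ h i) := fun g h i => huniq _ _ _ fun x hx => by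
    rw [map_mul, Module.End.mul_apply]
    exact hσ g _ _ (hσ h i x hx)
  have hσone : ∀ i, σ 1 i = i := fun i => huniq _ _ _ fun x hx => by simpa using hx
  let f : H →* Equiv.Perm ι :=
    MonoidHom.mk' (fun h => ⟨σ h, σ h⁻¹, fun i => by rw [← hσmul, inv_mul_cancel, hσone],
      fun i => by rw [← hσmul, mul_inv_cancel, hσone]⟩)
      fun g h => Equiv.ext fun i => hσmul g h i
  have hf : ∀ h i, f h i = σ h i := fun h i => rfl
  set G := f.range with hG
  have hGperf : commutator G = ⊤ := by
    rw [commutator_def] at hperf ⊢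
    have := congrArg (Subgroup.map f.rangeRestrict) hperf
    rwa [Subgroup.map_commutator, Subgroup.map_top_of_surjective _
      f.rangeRestrict_surjective] at this
  haveI : MulAction.IsPretransitive G ι := ⟨fun i j => by
    obtain ⟨u, -, hu⟩ := htrans i j
    exact ⟨⟨f u, ⟨u, rfl⟩⟩, huniq u i j hu⟩⟩
  have hnt : 1 < Fintype.card ι := by rw [hι]; exact hp.one_lt
  obtain ⟨a, b, hab⟩ := Fintype.exists_pair_of_one_lt_card hnt
  have hns : ¬ Group.IsSolvable G := by
    intro hs
    have h1 : (⊤ : Subgroup G) = ⊥ := by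
      obtain ⟨n, hn⟩ := (Group.isSolvable_def G).1 hs
      have hd : ∀ m, derivedSeries G m = ⊤ := by
        intro m
        induction m with
        | zero => rfl
        | succ m ih => rw [derivedSeries_succ, ih, ← commutator_def]; exact hGperf
      rw [← hd n, hn]
    obtain ⟨g, hg⟩ := MulAction.exists_smul_eq G a b
    rw [show g = 1 from Subgroup.mem_bot.1 (h1 ▸ Subgroup.mem_top g), one_smul] at hg
    exact hab hg
  rcases Cfsg.Agent.S0675.result (α := ι) (hι ▸ hp) G with h | h2
  · exact hns h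
  -- the image of the Sylow subgroup is small
  have himg : Nat.card ↥((P : Subgroup H).map f) ≤ p := by
    obtain ⟨e, he⟩ := IsPGroup.iff_card.1 (P.2.map f)
    have hdvd : p ^ e ∣ p.factorial := by
      have h1 := Subgroup.card_subgroup_dvd_card ((P : Subgroup H).map f)
      rwa [he, Nat.card_eq_fintype_card, Fintype.card_perm, hι] at h1
    have hle : e ≤ 1 := by
      by_contra hc
      have h2 : p * p ∣ p * (p - 1).factorial := by
        rw [Nat.mul_factorial_pred hp.ne_zero, ← pow_two]
        exact (pow_dvd_pow p (by omega)).trans hdvd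
      have h3 := (hp.dvd_factorial).1 ((Nat.mul_dvd_mul_iff_left hp.pos).1 h2)
      have := hp.two_le; omega
    rw [he]
    exact (Nat.pow_le_pow_right hp.pos hle).trans (pow_one p).le
  obtain ⟨x, hxW, hx0⟩ := hex a
  obtain ⟨y, hyW, hy0⟩ := hex b
  haveI : Fintype ↥((P : Subgroup H).map f) := Fintype.ofFinite _
  let g1 : ↥((P : Subgroup H).map f) × Bool → ι × ι := fun t =>
    cond t.2 ((t.1 : Equiv.Perm ι) a, (t.1 : Equiv.Perm ι) b)
      ((t.1 : Equiv.Perm ι) b, (t.1 : Equiv.Perm ι) a)
  have hsub : (Finset.univ : Finset ι).offDiag ⊆ Finset.univ.image g1 := by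
    rintro ⟨i, j⟩ hij
    obtain ⟨-, -, hne⟩ := Finset.mem_offDiag.1 hij
    obtain ⟨⟨-, h, rfl⟩, hh⟩ :=
      (MulAction.is_two_pretransitive_iff.1 h2) hab hne
    obtain ⟨hha, hhb⟩ := hh
    obtain ⟨u, hu, e⟩ := factor hρ P h (x + y)
    rw [map_add, map_add] at e
    have hxi : ρ h x ∈ W i := (show σ h a = i from hha) ▸ hσ h a x hxW
    have hyj : ρ h y ∈ W j := (show σ h b = j from hhb) ▸ hσ h b y hyW
    have hab' : σ u a ≠ σ u b := fun e' => hab ((f u).injective e')
    have key : ∀ l, (l = i ∨ l = j) → (l = σ u a ∨ l = σ u b) := by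
      intro l hl
      by_contra hc
      push Not at hc
      have h0 : π l (ρ u x + ρ u y) = 0 := by
        rw [map_add, hπ' l _ hc.1 _ (hσ u a x hxW), hπ' l _ hc.2 _ (hσ u b y hyW), add_zero]
      rw [← e, map_add] at h0
      rcases hl with rfl | rfl
      · rw [hπ l _ hxi, hπ' l j hne _ hyj, add_zero] at h0
        exact hx0 (rho_injective ρ h (h0.trans (map_zero _).symm))
      · rw [hπ l _ hyj, hπ' l i (Ne.symm hne) _ hxi, zero_add] at h0
        exact hy0 (rho_injective ρ h (h0.trans (map_zero _).symm))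
    have hmem : f u ∈ (P : Subgroup H).map f := ⟨u, hu, rfl⟩
    rw [Finset.mem_image]
    rcases key i (Or.inl rfl) with h3 | h3 <;> rcases key j (Or.inr rfl) with h4 | h4
    · exact absurd (h3.trans h4.symm) hne
    · exact ⟨(⟨f u, hmem⟩, true), Finset.mem_univ _, Prod.ext h3.symm h4.symm⟩
    · exact ⟨(⟨f u, hmem⟩, false), Finset.mem_univ _, Prod.ext h3.symm h4.symm⟩
    · exact absurd (h3.trans h4.symm) hne
  have hc := (Finset.card_le_card hsub).trans Finset.card_image_le
  rw [Finset.offDiag_card, Finset.card_univ, Finset.card_univ, Fintype.card_prod,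
    Fintype.card_bool, hι, ← Nat.card_eq_fintype_card] at hc
  have h3 : p ≤ 3 := by
    have h5 : p * p - p ≤ p * 2 := hc.trans (Nat.mul_le_mul_right 2 himg)
    have h6 : p * (p - 1) ≤ p * 2 := by rw [Nat.mul_sub, mul_one]; exact h5
    have := Nat.le_of_mul_le_mul_left h6 hp.pos
    omega
  haveI := isSolvable_of_card_le_three (α := ι) (hι ▸ h3)
  exact hns inferInstance

end CfsgLib.PowerOrbits
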