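import Cfsg.Agent.Lib.PowerOrbits.Basic
import Cfsg.Agent.S3972
import Cfsg.Agent.Lib.PRegularClass

/-!
# Linear groups with orbits of prime power size: cyclic Sylow subgroup
-/

namespace CfsgLib.PowerOrbits

open Cfsg

set_option linter.unusedVariables false
set_option linter.style.haveILetI false
set_option linter.unusedSectionVars false

universe u v

/-- A perfect group has no nontrivial homomorphism to a commutative group. -/
theorem hom_eq_one_of_perfect {H : Type u} [Group H] (hperf : commutator H = ⊤) {A : Type*}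
    [Group A] (hA : ∀ a b : A, a * b = b * a) (f : H →* A) : f = 1 := by
  have hle : (⊤ : Subgroup H) ≤ f.ker := by
    rw [← hperf, commutator_def, Subgroup.commutator_le]
    intro a _ b _
    rw [MonoidHom.mem_ker, map_commutatorElement, commutatorElement_eq_one_iff_mul_comm]
    exact hA _ _
  exact MonoidHom.ext fun h => hle (Subgroup.mem_top h)

theorem isSolvable_of_comm {H : Type u} [Group H] (hperf : commutator H = ⊤) [Nontrivial H]
    (hA : ∀ a b : H, a * b = b * a) : False := by
  obtain ⟨h, hh⟩ := exists_ne (1 : H)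
  exact hh (congrFun (congrArg DFunLike.coe (hom_eq_one_of_perfect hperf hA (MonoidHom.id H))) h)

theorem not_perfect_of_isSolvable {H : Type u} [Group H] (hperf : commutator H = ⊤) [Nontrivial H]
    [Group.IsSolvable H] : False :=
  (Group.IsSolvable.commutator_lt_top_of_nontrivial H).ne hperf

variable {H : Type u} [Group H] [Finite H] {q : ℕ} [Fact q.Prime]
  {V : Type v} [AddCommGroup V] [Module (ZMod q) V] [Finite V]

/-- For `p` odd the group has odd order. -/
theorem odd_card {p : ℕ} (hp : p.Prime) (hp2 : p ≠ 2) {ρ : Representation (ZMod q) H V}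
    (hinj : Function.Injective ρ) (hcop : ¬ q ∣ Nat.card H) (hρ : PowerOrbit p ρ) :
    Odd (Nat.card H) := by
  classical
  rw [← Nat.not_even_iff_odd, even_iff_two_dvd]
  intro h2
  have hq2 : q ≠ 2 := fun e => hcop (e.symm ▸ h2)
  haveI := Fact.mk Nat.prime_two
  obtain ⟨t, ht⟩ := exists_prime_orderOf_dvd_card' 2 h2
  have ht2 : t * t = 1 := by rw [← pow_two, ← ht, pow_orderOf_eq_one]
  obtain ⟨x, hx⟩ : ∃ x, ρ t x ≠ x := by
    by_contra hno
    push Not at hno
    have : t = 1 := hinj (by rw [map_one]; exact LinearMap.ext hno)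
    rw [this, orderOf_one] at ht
    exact absurd ht (by norm_num)
  set y := x - ρ t x with hy
  have hy0 : y ≠ 0 := fun e => hx (sub_eq_zero.1 e).symm
  have hty : ρ t y = -y := by
    rw [hy, map_sub, ← Module.End.mul_apply, ← map_mul, ht2, map_one, Module.End.one_apply, neg_sub]
  obtain ⟨a, ha⟩ := hρ y
  letI act : MulAction H V :=
    { smul := fun h w => ρ h w
      one_smul := fun w => by show ρ 1 w = w; simp
      mul_smul := fun g h w => by show ρ (g * h) w = ρ g (ρ h w); simp }
  haveI : Fintype ↥(MulAction.orbit H y) := Fintype.ofFinite _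
  have hcard : Fintype.card ↥(MulAction.orbit H y) = p ^ a := by
    rw [← Nat.card_eq_fintype_card, ← ha, Subgroup.index_eq_card]
    exact Nat.card_congr (MulAction.orbitEquivQuotientStabilizer H y)
  let neg : Equiv.Perm ↥(MulAction.orbit H y) :=
    Function.Involutive.toPerm (fun u => ⟨-(u : V), by
      obtain ⟨h, hh⟩ := u.2
      refine ⟨h * t, ?_⟩
      show ρ (h * t) y = -(u : V)
      rw [map_mul, Module.End.mul_apply, hty, map_neg, ← hh]
      rfl⟩) fun u => Subtype.ext (neg_neg _)
  obtain ⟨u, hu⟩ := Equiv.Perm.exists_fixed_point_of_prime (p := 2) (n := 1)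
    (by rw [hcard]; exact fun hd => hp2 ((Nat.prime_dvd_prime_iff_eq Nat.prime_two hp).1
      (Nat.prime_two.dvd_of_dvd_pow hd)).symm)
    (σ := neg) (by ext w; simp [pow_two, neg, Function.Involutive.toPerm])
  have h0 : -(u : V) = u := congrArg Subtype.val hu
  have hu0 : (u : V) = 0 := by
    have h1 : ((2 : ℕ) : ZMod q) • (u : V) = 0 := by
      rw [Nat.cast_smul_eq_nsmul, two_nsmul]
      nth_rewrite 1 [← h0]
      exact neg_add_cancel _
    refine (smul_eq_zero.1 h1).resolve_left ?_
    rw [ZMod.natCast_eq_zero_iff]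
    exact fun hd => hq2 ((Nat.prime_dvd_prime_iff_eq Fact.out Nat.prime_two).1 hd)
  obtain ⟨h, hh⟩ := u.2
  exact hy0 (rho_injective ρ h ((show ρ h y = (u : V) from hh).trans (hu0.trans (map_zero _).symm)))

/-- A solvable nontrivial normal subgroup gives a nontrivial `p`-core. -/
theorem pCore_ne_bot {p : ℕ} [Fact p.Prime] {ρ : Representation (ZMod q) H V}
    (hinj : Function.Injective ρ) (hρ : PowerOrbit p ρ) (N : Subgroup H) [N.Normal]
    [Group.IsSolvable N] (hN : N ≠ ⊥) : pCore p H ≠ ⊥ := by
  have hp : p.Prime := Fact.out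
  intro hcore
  have hF : fittingSubgroup N = ⊥ := by
    rw [CfsgLib.fittingSubgroup_eq_iSup_pCore, iSup_eq_bot]
    intro r
    rw [← Subgroup.map_eq_bot_iff_of_injective _ N.subtype_injective]
    by_cases hrp : (r : ℕ) = p
    · exact le_bot_iff.1 ((CfsgLib.map_pCore_le _ N).trans (by rw [hrp, hcore]))
    · haveI : ((pCore (r : ℕ) N).map N.subtype).Normal :=
        ConjAct.normal_of_characteristic_of_normal
      exact eq_bot_of_isPGroup hp r.2 hrp hinj hρ _
        ((CfsgLib.isPGroup_pCore (G := N) (r : ℕ)).map _)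
  have h := CfsgLib.centralizer_fitting_le (G := N)
  rw [hF, Subgroup.coe_bot] at h
  apply hN
  rw [Subgroup.eq_bot_iff_forall]
  intro x hx
  have : (⟨x, hx⟩ : N) ∈ (⊥ : Subgroup N) := h (by simp [Subgroup.mem_centralizer_iff])
  exact congrArg Subtype.val (Subgroup.mem_bot.1 this)

/-- A perfect group cannot act irreducibly with orbits of `p`-power size and a cyclic Sylow
`p`-subgroup, provided its proper normal subgroups are solvable. -/
theorem cyclic_false {p : ℕ} [Fact p.Prime] {ρ : Representation (ZMod q) H V}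
    (hinj : Function.Injective ρ) (hcop : ¬ q ∣ Nat.card H) (hρ : PowerOrbit p ρ)
    (hperf : commutator H = ⊤) [Nontrivial H] [Nontrivial V]
    (hnsol : ∀ N : Subgroup H, N.Normal → N ≠ ⊤ → Group.IsSolvable N)
    (P : Sylow p H)
    (hirr : ∀ W : Submodule (ZMod q) V, (∀ u ∈ (P : Subgroup H), ∀ x ∈ W, ρ u x ∈ W) → W = ⊥ ∨ W = ⊤)
    (hcyc : IsCyclic (P : Subgroup H)) : False := by
  classical
  have hp : p.Prime := Fact.out
  haveI := hcyc
  have hPcomm : ∀ a b : (P : Subgroup H), a * b = b * a := fun a b =>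
    (IsCyclic.isMulCommutative (α := (P : Subgroup H))).1.1 a b
  have hPne : (P : Subgroup H) ≠ ⊥ := by
    intro e
    have htriv : ∀ h : H, ρ h = 1 := fun h => LinearMap.ext fun x => by
      obtain ⟨u, hu, eq⟩ := factor hρ P h x
      rw [eq, show u = 1 from Subgroup.mem_bot.1 (e ▸ hu), map_one]
    obtain ⟨h, hh⟩ := exists_ne (1 : H)
    exact hh (hinj ((htriv h).trans (map_one ρ).symm))
  have hpH : p ∣ Nat.card H := by
    obtain ⟨e, he⟩ := IsPGroup.iff_card.1 P.2
    have h1 : e ≠ 0 := fun h0 => hPne (Subgroup.eq_bot_of_card_eq _ (by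
      rw [show Nat.card (P : Subgroup H) = p ^ e from he, h0, pow_zero]))
    exact (dvd_pow_self p h1).trans (he ▸ Subgroup.card_subgroup_dvd_card (P : Subgroup H))
  by_cases hp2 : p = 2
  · -- a cyclic Sylow two-subgroup gives a normal complement
    subst hp2
    have hmin : (Nat.card H).minFac = 2 := (Nat.minFac_eq_two_iff _).2 hpH
    have hle : Subgroup.normalizer ((P : Subgroup H) : Set H) ≤
        Subgroup.centralizer ((P : Subgroup H) : Set H) :=
      IsCyclic.normalizer_le_centralizer hmin hcyc
    have h1 := hom_eq_one_of_perfect hperf hPcomm (MonoidHom.transferSylow P hle)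
    have h2 := MonoidHom.ker_transferSylow_isComplement' P hle
    rw [h1, MonoidHom.ker_one] at h2
    exact hPne (Subgroup.isComplement'_top_left.1 h2)
  -- `p` is odd
  have hodd := odd_card hp hp2 hinj hcop hρ
  obtain ⟨v, hv⟩ := exists_ne (0 : V)
  letI act : MulAction H V :=
    { smul := fun h w => ρ h w
      one_smul := fun w => by show ρ 1 w = w; simp
      mul_smul := fun g h w => by show ρ (g * h) w = ρ g (ρ h w); simp }
  let Ω := MulAction.orbit H v
  haveI : Fintype Ω := Fintype.ofFinite _
  let f : H →* Equiv.Perm Ω := MulAction.toPermHom H Ω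
  have hfapp : ∀ (h : H) (w : Ω), ((f h w : Ω) : V) = ρ h w := fun h w => rfl
  have hfinj : Function.Injective f := by
    rw [injective_iff_map_eq_one]
    intro h hh
    apply hinj
    rw [map_one]
    have hfix : ∀ w : Ω, ρ h w = w := fun w => by rw [← hfapp, hh]; rfl
    have hW : Submodule.span (ZMod q) (Ω : Set V) = ⊤ := by
      refine (hirr _ ?_).resolve_left ?_
      · intro u hu x hx
        induction hx using Submodule.span_induction with
        | mem w hw => exact Submodule.subset_span (MulAction.mem_orbit_of_mem_orbit u hw)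
        | zero => rw [map_zero]; exact zero_mem _
        | add a b _ _ ha hb => rw [map_add]; exact add_mem ha hb
        | smul c a _ ha => rw [map_smul]; exact Submodule.smul_mem _ c ha
      · intro e
        exact hv ((Submodule.mem_bot _).1 (e ▸ Submodule.subset_span (MulAction.mem_orbit_self v)))
    refine LinearMap.ext fun x => ?_
    have hx : x ∈ Submodule.span (ZMod q) (Ω : Set V) := hW ▸ Submodule.mem_top
    induction hx using Submodule.span_induction with
    | mem w hw => exact hfix ⟨w, hw⟩
    | zero => rw [map_zero, map_zero]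
    | add a b _ _ ha hb => rw [map_add, map_add, ha, hb]
    | smul c a _ ha => rw [map_smul, map_smul, ha]
  -- the Sylow subgroup is regular on the orbit
  have hreg : ∀ u ∈ (P : Subgroup H), ρ u v = v → u = 1 := by
    intro u hu hfix
    have hW : LinearMap.ker (ρ u - LinearMap.id) = ⊤ := by
      refine (hirr _ ?_).resolve_left ?_
      · intro w hw x hx
        simp only [LinearMap.mem_ker, LinearMap.sub_apply, LinearMap.id_apply, sub_eq_zero] at hx ⊢
        have hc : u * w = w * u := congrArg Subtype.val (hPcomm ⟨u, hu⟩ ⟨w, hw⟩)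
        rw [← Module.End.mul_apply, ← map_mul, hc, map_mul, Module.End.mul_apply, hx]
      · intro e
        have h' : v ∈ LinearMap.ker (ρ u - LinearMap.id) := by simp [LinearMap.mem_ker, hfix]
        rw [e, Submodule.mem_bot] at h'
        exact hv h'
    apply hinj
    rw [map_one]
    exact sub_eq_zero.1 (LinearMap.ker_eq_top.1 hW)
  obtain ⟨a, ha⟩ := hρ v
  have hcard : Nat.card Ω = Nat.card (P : Subgroup H) := by
    refine (Nat.card_congr (Equiv.ofBijective
      (fun u : (P : Subgroup H) => (⟨ρ (u : H) v, MulAction.mem_orbit v (u : H)⟩ : Ω)) ⟨?_, ?_⟩)).symm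
    · intro x y e
      have e' : ρ (x : H) v = ρ (y : H) v := congrArg Subtype.val e
      refine inv_mul_eq_one.1 (Subtype.ext (hreg _ (x⁻¹ * y).2 ?_))
      rw [Subgroup.coe_mul, Subgroup.coe_inv, map_mul, Module.End.mul_apply, ← e', rho_inv_apply]
    · rintro ⟨w, h, rfl⟩
      obtain ⟨u, hu, eq⟩ := factor hρ P h v
      exact ⟨⟨u, hu⟩, Subtype.ext eq.symm⟩
  obtain ⟨m, hm⟩ := IsPGroup.iff_card.1 P.2
  have hΩ : Fintype.card Ω = p ^ m := by rw [← Nat.card_eq_fintype_card, hcard]; exact hm
  have hm0 : m ≠ 0 := fun h0 => hPne (Subgroup.eq_bot_of_card_eq _ (by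
    rw [show Nat.card (P : Subgroup H) = p ^ m from hm, h0, pow_zero]))
  set G := f.range with hG
  haveI htr : MulAction.IsPretransitive G Ω := ⟨fun w w' => by
    obtain ⟨h, hh⟩ := MulAction.exists_smul_eq H w w'
    exact ⟨⟨f h, ⟨h, rfl⟩⟩, hh⟩⟩
  have h2 : ¬ MulAction.IsMultiplyPretransitive G Ω 2 := by
    intro h2
    have hlt : 1 < Fintype.card Ω := hΩ ▸ Nat.one_lt_pow hm0 hp.one_lt
    obtain ⟨w, w', hne⟩ := Fintype.exists_pair_of_one_lt_card hlt
    obtain ⟨⟨-, h, rfl⟩, h1, h3⟩ :=
      MulAction.is_two_pretransitive_iff.1 h2 hne hne.symm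
    have h1' : f h w = w' := h1
    have h3' : f h w' = w := h3
    have hsq : h * h ∈ MulAction.stabilizer H w := by
      show (f (h * h)) w = w
      rw [map_mul, Equiv.Perm.mul_apply, h1', h3']
    have hmem : h ∈ Subgroup.zpowers (h * h) := by
      obtain ⟨r, hr⟩ := (hodd.of_dvd_nat (orderOf_dvd_natCard h))
      refine mem_powers_iff_mem_zpowers.1 ⟨r + 1, ?_⟩
      show (h * h) ^ (r + 1) = h
      rw [← pow_two, ← pow_mul, show 2 * (r + 1) = orderOf h + 1 by omega, pow_succ,
        pow_orderOf_eq_one, one_mul]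
    have : h ∈ MulAction.stabilizer H w := (Subgroup.zpowers_le.2 hsq) hmem
    exact hne ((show f h w = w from this).symm.trans h1')
  have hGperf : commutator G = ⊤ := by
    rw [commutator_def] at hperf ⊢
    have := congrArg (Subgroup.map f.rangeRestrict) hperf
    rwa [Subgroup.map_commutator, Subgroup.map_top_of_surjective _
      f.rangeRestrict_surjective] at this
  haveI : Nontrivial G :=
    (MonoidHom.ofInjective hfinj).symm.toEquiv.nontrivial
  rcases Nat.lt_or_ge m 2 with hm1 | hm2
  · have hm1' : m = 1 := by omega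
    rcases Cfsg.Agent.S0675.result (α := Ω) (by rw [hΩ, hm1', pow_one]; exact hp) G with h | h
    · haveI := h; exact not_perfect_of_isSolvable hGperf
    · exact h2 h
  obtain ⟨g, hg⟩ := IsCyclic.exists_generator (α := (P : Subgroup H))
  have hgo : orderOf (g : H) = p ^ m := by
    rw [Subgroup.orderOf_coe, orderOf_eq_card_of_forall_mem_zpowers hg]; exact hm
  set z := (g : H) ^ p ^ (m - 1) with hzdef
  have hz1 : z ≠ 1 := by
    rw [hzdef, Ne, ← orderOf_dvd_iff_pow_eq_one, hgo, Nat.pow_dvd_pow_iff_le_right hp.one_lt]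
    omega
  set N := Subgroup.normalClosure ({z} : Set H) with hN
  have hNtop : N ≠ ⊤ := by
    intro htop
    have h := (Cfsg.Agent.S3972.result p m hp hm2 hΩ G htr h2 (f.rangeRestrict (g : H)) (by
      rw [← hgo]
      exact orderOf_injective f.rangeRestrict (f.rangeRestrict_injective_iff.2 hfinj) _)).2
    apply h
    have e : Subgroup.normalClosure ({f.rangeRestrict (g : H) ^ p ^ (m - 1)} : Set G) = ⊤ := by
      have h1 := Subgroup.map_normalClosure ({z} : Set H) f.rangeRestrict f.rangeRestrict_surjective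
      rw [← hN, htop, Subgroup.map_top_of_surjective _ f.rangeRestrict_surjective,
        Set.image_singleton, hzdef, map_pow] at h1
      exact h1.symm
    rw [e]
    exact ⟨fun w w' => by
      obtain ⟨x, hx⟩ := MulAction.exists_smul_eq G w w'
      exact ⟨⟨x, Subgroup.mem_top x⟩, hx⟩⟩
  haveI : N.Normal := Subgroup.normalClosure_normal
  haveI := hnsol N inferInstance hNtop
  have hcore := pCore_ne_bot hinj hρ N fun e => hz1 (Subgroup.mem_bot.1
    (e ▸ Subgroup.subset_normalClosure rfl))
  -- the core is central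
  haveI := CfsgLib.pCore_characteristic (G := H) p
  set A := pCore p H with hA
  have hAP : A ≤ (P : Subgroup H) := CfsgLib.pCore_le_sylow P
  have hAcent : A ≤ Subgroup.center H := by
    haveI : IsCyclic A := isCyclic_of_injective (Subgroup.inclusion hAP)
      (Subgroup.inclusion_injective hAP)
    have h1 := hom_eq_one_of_perfect hperf (A := MulAut A) ?_ MulAut.conjNormal
    · intro a ha
      rw [Subgroup.mem_center_iff]
      intro h
      have := congrArg Subtype.val (DFunLike.congr_fun (DFunLike.congr_fun h1 h) (⟨a, ha⟩ : A))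
      simp only [MulAut.conjNormal_apply, MonoidHom.one_apply, MulAut.one_apply] at this
      exact mul_inv_eq_iff_eq_mul.1 this
    · intro s t
      obtain ⟨w, hw⟩ := IsCyclic.exists_generator (α := A)
      obtain ⟨i, hi⟩ := hw (s w)
      obtain ⟨l, hl⟩ := hw (t w)
      ext x
      obtain ⟨n, rfl⟩ := hw x
      rw [MulAut.mul_apply, MulAut.mul_apply, map_zpow, map_zpow, map_zpow, map_zpow]
      congr 2
      rw [← hl, ← hi, map_zpow, map_zpow, ← hi, ← hl, ← zpow_mul, ← zpow_mul, mul_comm i l]
  obtain ⟨a, haA, ha1⟩ := (Subgroup.bot_or_exists_ne_one A).resolve_left hcore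
  letI : CommGroup (P : Subgroup H) :=
    { (inferInstance : Group (P : Subgroup H)) with mul_comm := hPcomm }
  haveI : (P : Subgroup H).FiniteIndex := Subgroup.finiteIndex_of_finite
  have h1 := hom_eq_one_of_perfect hperf (A := (P : Subgroup H)) mul_comm
    (MonoidHom.transfer (MonoidHom.id (P : Subgroup H)))
  have h3 := MonoidHom.transfer_eq_pow (ϕ := MonoidHom.id (P : Subgroup H)) a fun k g0 _ => by
    have hc : ∀ x : H, x * a ^ k = a ^ k * x :=
      Subgroup.mem_center_iff.1 (pow_mem (hAcent haA) k)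
    rw [hc g0⁻¹, inv_mul_cancel_right]
  rw [h1, MonoidHom.one_apply] at h3
  have h4 : a ^ (P : Subgroup H).index = 1 := (congrArg Subtype.val h3).symm
  have h5 := orderOf_dvd_of_pow_eq_one h4
  obtain ⟨e, he⟩ := IsPGroup.iff_orderOf.1 P.2 ⟨a, hAP haA⟩
  rw [← Subgroup.orderOf_coe] at he
  simp only at he
  rw [he] at h5
  rcases Nat.eq_zero_or_pos e with rfl | he0
  · rw [pow_zero, orderOf_eq_one_iff] at he; exact ha1 he
  · exact P.not_dvd_index ((dvd_pow_self p he0.ne').trans h5)

end CfsgLib.PowerOrbits
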