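import Mathlib

/-!
# An irreducible operator of two-power order normalised with exponent three modulo four
-/

namespace CfsgLib.PowerOrbits

open Polynomial

set_option linter.unusedVariables false
set_option linter.style.haveILetI false

universe v

theorem finrank_le_two {q : ℕ} [Fact q.Prime] (hq2 : q ≠ 2) {V : Type v} [AddCommGroup V]
    [Module (ZMod q) V] [Finite V] [Nontrivial V] (T X : Module.End (ZMod q) V)
    {kk j : ℕ} (hk : 2 ≤ kk) (hT : orderOf T = 2 ^ kk)
    (hX : IsUnit X) (hXT : X * T = T ^ j * X) (hj : j % 4 = 3) (hjj : T ^ (j * j) = T)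
    (hirr : ∀ W : Submodule (ZMod q) V, (∀ x ∈ W, T x ∈ W) → W = ⊥ ∨ W = ⊤) :
    Module.finrank (ZMod q) V ≤ 2 := by
  classical
  haveI : Module.Finite (ZMod q) V := Module.Finite.of_finite
  set μ := minpoly (ZMod q) T with hμdef
  have hint : IsIntegral (ZMod q) T := Algebra.IsIntegral.isIntegral T
  have hμm : μ.Monic := minpoly.monic hint
  have hμirr : Irreducible μ := by
    refine (Polynomial.irreducible_of_monic hμm (minpoly.ne_one (ZMod q) T)).2 ?_
    intro f g hf hg hfg
    by_contra hc
    push Not at hc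
    obtain ⟨hf1, hg1⟩ := hc
    have h0 : aeval T f * aeval T g = 0 := by rw [← map_mul, hfg]; exact minpoly.aeval _ _
    have hdf : 0 < f.natDegree := hf.natDegree_pos.2 hf1
    have hdg : 0 < g.natDegree := hg.natDegree_pos.2 hg1
    have hdeg : f.natDegree + g.natDegree = μ.natDegree := by
      rw [← hfg, hf.natDegree_mul hg]
    have hnot : ∀ u : (ZMod q)[X], u.Monic → u.natDegree < μ.natDegree → aeval T u ≠ 0 := by
      intro u hu hlt he
      have := natDegree_le_natDegree (minpoly.min (ZMod q) T hu he)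
      rw [← hμdef] at this
      omega
    rcases hirr (LinearMap.ker (aeval T f)) (fun x hx => by
        rw [LinearMap.mem_ker] at hx ⊢
        have hc : aeval T f * T = T * aeval T f := by
          have h2 := congrArg (aeval T) (mul_comm f Polynomial.X)
          rwa [map_mul, map_mul, aeval_X] at h2
        rw [← Module.End.mul_apply, hc, Module.End.mul_apply, hx, map_zero]) with h | h
    · refine hnot g hg (by omega) (LinearMap.ext fun x => ?_)
      have h1 : aeval T g x ∈ LinearMap.ker (aeval T f) := by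
        rw [LinearMap.mem_ker, ← Module.End.mul_apply, h0, LinearMap.zero_apply]
      rw [h, Submodule.mem_bot] at h1
      simpa using h1
    · exact hnot f hf (by omega) (LinearMap.ker_eq_top.1 h)
  haveI := Fact.mk hμirr
  -- the dimension is at most the degree
  have hle : Module.finrank (ZMod q) V ≤ μ.natDegree := by
    obtain ⟨v, hv⟩ := exists_ne (0 : V)
    set Sp := Submodule.span (ZMod q)
      (((Finset.range μ.natDegree).image fun i => (T ^ i) v : Finset V) : Set V) with hSp
    have hmem : ∀ f : (ZMod q)[X], aeval T f v ∈ Sp := by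
      intro f
      rw [show aeval T f = aeval T (f %ₘ μ) from by
        conv_lhs => rw [← modByMonic_add_div f μ]
        rw [map_add, map_mul, hμdef, minpoly.aeval, zero_mul, add_zero]]
      rcases eq_or_ne (f %ₘ μ) 0 with h | h
      · rw [h, map_zero, LinearMap.zero_apply]; exact zero_mem _
      rw [aeval_eq_sum_range' (n := μ.natDegree) (by
        rw [natDegree_lt_iff_degree_lt h, ← degree_eq_natDegree hμm.ne_zero]
        exact degree_modByMonic_lt f hμm), LinearMap.sum_apply]
      refine sum_mem fun i hi => ?_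
      rw [LinearMap.smul_apply]
      exact Submodule.smul_mem _ _ (Submodule.subset_span
        (Finset.mem_coe.2 (Finset.mem_image_of_mem _ hi)))
    let W : Submodule (ZMod q) V :=
      LinearMap.range ((LinearMap.applyₗ v).comp (aeval T : (ZMod q)[X] →ₐ[ZMod q] _).toLinearMap)
    have hW : W = ⊤ := by
      refine (hirr W ?_).resolve_left ?_
      · rintro _ ⟨f, rfl⟩
        refine ⟨Polynomial.X * f, ?_⟩
        simp
      · intro h
        have : v ∈ W := ⟨1, by simp⟩
        rw [h, Submodule.mem_bot] at this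
        exact hv this
    have hSpT : Sp = ⊤ := by
      refine top_le_iff.1 (hW ▸ ?_)
      rintro _ ⟨f, rfl⟩
      simpa using hmem f
    calc Module.finrank (ZMod q) V = Module.finrank (ZMod q) Sp := by rw [hSpT, finrank_top]
      _ ≤ _ := finrank_span_finset_le_card _
      _ ≤ μ.natDegree := Finset.card_image_le.trans (Finset.card_range _).le
  -- the field generated by the operator
  let L := AdjoinRoot μ
  let α : L := AdjoinRoot.root μ
  have hae : ∀ f : (ZMod q)[X], aeval α f = 0 ↔ aeval T f = 0 := by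
    intro f
    rw [AdjoinRoot.aeval_eq, AdjoinRoot.mk_eq_zero]
    exact minpoly.dvd_iff
  have hpow : ∀ m n : ℕ, α ^ m = α ^ n ↔ T ^ m = T ^ n := by
    intro m n
    have := hae (Polynomial.X ^ m - Polynomial.X ^ n)
    simpa [sub_eq_zero] using this
  haveI : Module.Finite (ZMod q) L := (AdjoinRoot.powerBasis hμm.ne_zero).finite
  haveI : Finite L := Module.finite_of_finite (ZMod q)
  haveI : Algebra.IsAlgebraic (ZMod q) L := Algebra.IsAlgebraic.of_finite _ _
  have hdim : Module.finrank (ZMod q) L = μ.natDegree := by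
    rw [(AdjoinRoot.powerBasis hμm.ne_zero).finrank, AdjoinRoot.powerBasis_dim]
  have hminα : minpoly (ZMod q) α = μ :=
    (minpoly.eq_of_irreducible_of_monic hμirr (by rw [hae]; exact minpoly.aeval _ _) hμm).symm
  -- conjugation gives another root
  have hconj : ∀ f : (ZMod q)[X], X * aeval T f = aeval (T ^ j) f * X := by
    intro f
    induction f using Polynomial.induction_on' with
    | add a b ha hb => rw [map_add, map_add, mul_add, add_mul, ha, hb]
    | monomial n c =>
      have hn : X * T ^ n = (T ^ j) ^ n * X := by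
        induction n with
        | zero => simp
        | succ n ih => rw [pow_succ, ← mul_assoc, ih, mul_assoc, hXT, ← mul_assoc, ← pow_succ]
      rw [aeval_monomial, aeval_monomial, ← mul_assoc, ← Algebra.commutes c X, mul_assoc, hn,
        mul_assoc]
  have hroot : aeval (α ^ j) μ = 0 := by
    have h1 : aeval (T ^ j) μ = 0 := by
      have := hconj μ
      rw [minpoly.aeval, mul_zero] at this
      exact hX.mul_left_eq_zero.1 this.symm
    have h2 := (hae (μ.comp (Polynomial.X ^ j))).2 (by rw [aeval_comp, map_pow, aeval_X]; exact h1)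
    rwa [aeval_comp, map_pow, aeval_X] at h2
  haveI : Fintype L := Fintype.ofFinite L
  obtain ⟨σ, hσ⟩ := minpoly.exists_algEquiv_of_root' (K := ZMod q) (L := L) (x := α ^ j) (y := α)
    (Algebra.IsAlgebraic.isAlgebraic α) (by rw [hminα]; exact hroot)
  obtain ⟨i, hi⟩ := (FiniteField.bijective_frobeniusAlgEquivOfAlgebraic_pow (ZMod q) L).2 σ
  set φ := FiniteField.frobeniusAlgEquivOfAlgebraic (ZMod q) L with hφ
  have hφpow : ∀ (m : ℕ) (y : L), (φ ^ m) y = y ^ q ^ m := by
    intro m
    induction m with
    | zero => intro y; simp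
    | succ m ih =>
      intro y
      rw [pow_succ', AlgEquiv.mul_apply, ih, hφ, FiniteField.coe_frobeniusAlgEquivOfAlgebraic,
        ZMod.card]
      beta_reduce
      rw [← pow_mul, ← pow_succ]
  have hfix : ∀ g : ℕ, α ^ q ^ g = α → μ.natDegree ∣ g := by
    intro g hg
    rw [← hdim, ← FiniteField.orderOf_frobeniusAlgEquivOfAlgebraic (ZMod q) L, ← hφ]
    apply orderOf_dvd_of_pow_eq_one
    apply AlgEquiv.coe_algHom_injective
    exact AdjoinRoot.algHom_ext (by
      show (φ ^ g) α = α
      rw [hφpow, hg])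
  have hαj : α ^ j = α ^ q ^ i.val := by rw [← hσ, ← hi]; exact hφpow _ α
  have hd1 : μ.natDegree ∣ 2 * i.val := by
    refine hfix _ ?_
    rw [two_mul, pow_add, pow_mul, ← hαj, ← pow_mul, mul_comm, pow_mul, ← hαj, ← pow_mul]
    calc α ^ (j * j) = α ^ 1 := (hpow _ _).2 (by rw [pow_one, hjj])
      _ = α := pow_one α
  have hq : q.Prime := Fact.out
  have hqodd : q % 2 = 1 := (hq.eq_two_or_odd).resolve_left hq2
  have hd2 : μ.natDegree ∣ 2 ^ (kk - 1) := by
    refine hfix _ ?_
    have h1 : q ^ 2 ^ (kk - 1) ≡ 1 [MOD 2 ^ kk] := by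
      have h := Nat.ModEq.pow_totient (x := q) (n := 2 ^ kk)
        (Nat.Coprime.pow_right _ (Nat.coprime_two_right.2 (Nat.odd_iff.2 hqodd)))
      rwa [Nat.totient_prime_pow Nat.prime_two (by omega),
        show (2 - 1 : ℕ) = 1 from rfl, mul_one] at h
    calc α ^ q ^ 2 ^ (kk - 1) = α ^ 1 := (hpow _ _).2 (by
          rw [← pow_mod_orderOf T (q ^ 2 ^ (kk - 1)), hT]
          unfold Nat.ModEq at h1
          rw [h1, ← hT, pow_mod_orderOf])
      _ = α := pow_one α
  have hiodd : i.val % 2 = 1 := by
    by_contra hev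
    have h1 : T ^ j = T ^ q ^ i.val := (hpow _ _).1 hαj
    have hTu : IsUnit T := by
      have h2 : T ^ (2 ^ kk) = 1 := hT ▸ pow_orderOf_eq_one T
      refine IsUnit.of_pow_eq_one h2 (by positivity)
    have h3 : j ≡ q ^ i.val [MOD 2 ^ kk] := by
      obtain ⟨t, ht⟩ := hTu
      rw [← ht, ← Units.val_pow_eq_pow_val, ← Units.val_pow_eq_pow_val, Units.val_inj,
        pow_eq_pow_iff_modEq, ← orderOf_units, ht, hT] at h1
      exact h1
    have h4 : j ≡ q ^ i.val [MOD 4] :=
      h3.of_dvd (show 2 ^ 2 ∣ 2 ^ kk from pow_dvd_pow 2 hk)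
    obtain ⟨m, hm⟩ : 2 ∣ i.val := by omega
    have h5 : q ^ i.val % 4 = 1 := by
      rw [hm, pow_mul, Nat.pow_mod]
      have : q ^ 2 % 4 = 1 := by
        rw [pow_two, Nat.mul_mod]
        have : q % 4 = 1 ∨ q % 4 = 3 := by omega
        rcases this with e | e <;> simp [e]
      simp [this]
    unfold Nat.ModEq at h4
    omega
  obtain ⟨t, -, ht⟩ := (Nat.dvd_prime_pow Nat.prime_two).1 hd2
  rw [ht] at hd1
  have ht1 : t ≤ 1 := by
    by_contra hc
    obtain ⟨r, hr⟩ : 4 ∣ 2 ^ t := pow_dvd_pow 2 (show 2 ≤ t by omega)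
    obtain ⟨s, hs⟩ := hd1
    rw [hr, mul_assoc] at hs
    omega
  calc Module.finrank (ZMod q) V ≤ 2 ^ t := ht ▸ hle
    _ ≤ 2 ^ 1 := Nat.pow_le_pow_right (by norm_num) ht1
    _ = 2 := pow_one 2

end CfsgLib.PowerOrbits
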