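import Cfsg.Agent.Lib.PowerOrbits.Struct
import Cfsg.Agent.Lib.PowerOrbits.Cyclic
import Cfsg.Agent.Lib.PowerOrbits.Degree

/-!
# Coprime linear groups with all orbits of prime power size are solvable
-/

namespace CfsgLib.PowerOrbits

open Cfsg

set_option linter.unusedVariables false
set_option linter.style.haveILetI false
set_option linter.unusedSectionVars false
set_option maxHeartbeats 1000000

universe u v

variable {q : ℕ} [Fact q.Prime]

theorem det_eq_one {H : Type u} [Group H] {V : Type v} [AddCommGroup V] [Module (ZMod q) V]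
    (ρ : Representation (ZMod q) H V) (hperf : commutator H = ⊤) (h : H) :
    LinearMap.det (ρ h) = 1 := by
  have h1 := hom_eq_one_of_perfect hperf (A := (ZMod q)ˣ) mul_comm
    ((LinearMap.det.comp ρ).toHomUnits)
  exact congrArg Units.val (DFunLike.congr_fun h1 h)

/-- An operator of determinant one on a plane fixing a nonzero vector. -/
theorem pow_q_eq_one {V : Type v} [AddCommGroup V] [Module (ZMod q) V] [Finite V]
    (hd : Module.finrank (ZMod q) V = 2) (T : Module.End (ZMod q) V) (hdet : LinearMap.det T = 1)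
    {x : V} (hx : x ≠ 0) (hTx : T x = x) : T ^ q = 1 := by
  haveI : Module.Finite (ZMod q) V := Module.Finite.of_finite
  let b := Module.finBasisOfFinrankEq (ZMod q) V hd
  set A := LinearMap.toMatrix b b T with hA
  have hdetA : A.det = 1 := by rw [hA, LinearMap.det_toMatrix, hdet]
  have hcp : T.charpoly = Polynomial.X ^ 2 - Polynomial.C A.trace * Polynomial.X + Polynomial.C 1 := by
    rw [← LinearMap.charpoly_toMatrix T b, ← hA, Matrix.charpoly_fin_two, hdetA]
  have h0 := LinearMap.aeval_self_charpoly T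
  rw [hcp] at h0
  simp only [map_add, map_sub, map_pow, map_mul, Polynomial.aeval_X, Polynomial.aeval_C,
    map_one] at h0
  have hTT : T (T x) = x := by rw [hTx, hTx]
  have h1 := LinearMap.congr_fun h0 x
  simp only [LinearMap.add_apply, LinearMap.sub_apply, Module.End.mul_apply, pow_two, hTT,
    Module.End.one_apply, LinearMap.zero_apply, Module.algebraMap_end_apply, hTx] at h1
  have htr : A.trace = 2 := by
    have h2 : ((2 : ZMod q) - A.trace) • x = 0 := by
      rw [sub_smul, two_smul]
      rw [← h1]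
      abel
    exact (sub_eq_zero.1 ((smul_eq_zero.1 h2).resolve_right hx)).symm
  have hN : (T - 1) ^ 2 = 0 := by
    rw [← h0, htr, map_ofNat, sub_sq_comm_aux T]
  have hq : q.Prime := Fact.out
  haveI : Nontrivial V := ⟨⟨x, 0, hx⟩⟩
  haveI : CharP (Module.End (ZMod q) V) q :=
    charP_of_injective_algebraMap (FaithfulSMul.algebraMap_injective (ZMod q) _) q
  have hz : (T - 1) ^ q = 0 := by
    obtain ⟨r, hr⟩ : ∃ r, q = 2 + r := ⟨q - 2, by have := hq.two_le; omega⟩
    calc (T - 1) ^ q = (T - 1) ^ (2 + r) := congrArg _ hr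
      _ = 0 := by rw [pow_add, hN, zero_mul]
  rw [sub_pow_char_of_commute q (Commute.one_right T), one_pow, sub_eq_zero] at hz
  exact hz
where
  sub_sq_comm_aux {R : Type v} [Ring R] (T : R) : (T - 1) ^ 2 = T ^ 2 - 2 * T + 1 := by
    noncomm_ring

theorem false_of_index_two {H : Type u} [Group H] [Finite H] {V : Type v} [AddCommGroup V]
    [Module (ZMod q) V] [Finite V] [Nontrivial V] [Nontrivial H]
    {ρ : Representation (ZMod q) H V} (hinj : Function.Injective ρ) (hcop : ¬ q ∣ Nat.card H)
    [Fact (Nat.Prime 2)] (hρ : PowerOrbit 2 ρ) (hperf : commutator H = ⊤) (P : Sylow 2 H)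
    (hirr : ∀ W : Submodule (ZMod q) V, (∀ u ∈ (P : Subgroup H), ∀ x ∈ W, ρ u x ∈ W) → W = ⊥ ∨ W = ⊤)
    (c x : (P : Subgroup H)) (j : ℕ) (hcard : Nat.card (P : Subgroup H) = 2 * orderOf c)
    (h4 : 4 ∣ orderOf c) (hj : j % 4 = 3) (hconj : x * c * x⁻¹ = c ^ j) : False := by
  classical
  set C := Subgroup.zpowers c with hC
  have hindex : C.index = 2 := by
    apply Nat.eq_of_mul_eq_mul_left (orderOf_pos c)
    rw [← Nat.card_zpowers, Subgroup.card_mul_index, hcard, Nat.card_zpowers, mul_comm]
  haveI : C.Normal := Subgroup.normal_of_index_eq_two hindex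
  have hxC : x ∉ C := by
    intro h
    obtain ⟨n, hn⟩ := h
    have hn' : c ^ n = x := hn
    have h1 : c ^ j = c ^ 1 := by
      rw [pow_one, ← hconj, ← hn', ((Commute.refl c).zpow_left n).eq, mul_inv_cancel_right]
    have h2 : j % 4 = 1 % 4 := Nat.ModEq.of_dvd h4 (pow_eq_pow_iff_modEq.1 h1)
    omega
  have hjj : c ^ (j * j) = c := by
    have hx2 : x * x ∈ C := Subgroup.mul_self_mem_of_index_two hindex x
    obtain ⟨n, hn⟩ := hx2
    have hn' : c ^ n = x * x := hn
    calc c ^ (j * j) = (c ^ j) ^ j := pow_mul c j j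
      _ = (x * c * x⁻¹) ^ j := by rw [hconj]
      _ = x * c ^ j * x⁻¹ := conj_pow
      _ = (x * x) * c * (x * x)⁻¹ := by rw [← hconj]; group
      _ = c := by rw [← hn', ((Commute.refl c).zpow_left n).eq, mul_inv_cancel_right]
  have hprod : ∀ u : (P : Subgroup H), u ∈ C ∨ x⁻¹ * u ∈ C := by
    intro u
    by_cases hu : u ∈ C
    · exact Or.inl hu
    · right
      rw [Subgroup.mul_mem_iff_of_index_two hindex, inv_mem_iff]
      exact ⟨fun h => absurd h hxC, fun h => absurd h hu⟩
  let T : Module.End (ZMod q) V := ρ (c : H)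
  let X : Module.End (ZMod q) V := ρ (x : H)
  -- subspaces invariant under the cyclic subgroup
  have hCinv : ∀ W : Submodule (ZMod q) V, (∀ y ∈ W, T y ∈ W) →
      ∀ u ∈ C, ∀ y ∈ W, ρ ((u : (P : Subgroup H)) : H) y ∈ W := by
    intro W hW u hu
    obtain ⟨n, hn⟩ := mem_powers_iff_mem_zpowers.2 hu
    have hn' : c ^ n = u := hn
    intro y hy
    rw [← hn', Subgroup.coe_pow, map_pow]
    clear hn hn'
    induction n generalizing y with
    | zero => simpa using hy
    | succ n ih =>
      rw [pow_succ, Module.End.mul_apply]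
      exact ih _ (hW y hy)
  have hP : ∀ W : Submodule (ZMod q) V, (∀ y ∈ W, T y ∈ W) → (∀ y ∈ W, X y ∈ W) →
      W = ⊥ ∨ W = ⊤ := by
    intro W hT hX
    refine hirr W fun u hu y hy => ?_
    rcases hprod ⟨u, hu⟩ with h | h
    · exact hCinv W hT _ h y hy
    · have h1 := hX _ (hCinv W hT _ h y hy)
      simp only [Subgroup.coe_mul, Subgroup.coe_inv, map_mul, Module.End.mul_apply] at h1
      rwa [show X (ρ ((x : H))⁻¹ (ρ u y)) = ρ u y from rho_apply_inv ρ _ _] at h1
  have hCirr : ∀ W : Submodule (ZMod q) V, (∀ y ∈ W, T y ∈ W) → W = ⊥ ∨ W = ⊤ := by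
    intro W0 hW0
    by_contra hc
    push Not at hc
    obtain ⟨W, hWS, hWmin⟩ := (Set.toFinite {W : Submodule (ZMod q) V |
      W ≠ ⊥ ∧ W ≠ ⊤ ∧ ∀ y ∈ W, T y ∈ W}).exists_minimal ⟨W0, hc.1, hc.2, hW0⟩
    obtain ⟨hWb, hWt, hWT⟩ := hWS
    set W' := W.map X with hW'
    have hW'T : ∀ y ∈ W', T y ∈ W' := by
      rintro _ ⟨y, hy, rfl⟩
      have hcx : x⁻¹ * c * x ∈ C := by
        have := (inferInstance : C.Normal).conj_mem c (Subgroup.mem_zpowers c) x⁻¹
        rwa [inv_inv] at this
      refine ⟨ρ ((x⁻¹ * c * x : (P : Subgroup H)) : H) y, hCinv W hWT _ hcx y hy, ?_⟩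
      show ρ (x : H) _ = ρ (c : H) (ρ (x : H) y)
      simp only [Subgroup.coe_mul, Subgroup.coe_inv, map_mul, Module.End.mul_apply]
      rw [rho_apply_inv]
    have hXX : ∀ y ∈ W, X (X y) ∈ W := by
      intro y hy
      have := hCinv W hWT _ (Subgroup.mul_self_mem_of_index_two hindex x) y hy
      rwa [Subgroup.coe_mul, map_mul, Module.End.mul_apply] at this
    have hinf : W ⊓ W' = ⊥ := by
      by_contra hne
      have hle : W ≤ W ⊓ W' := by
        refine hWmin ⟨hne, fun e => hWt (top_le_iff.1 (e ▸ inf_le_left)), fun y hy => ?_⟩ inf_le_left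
        exact ⟨hWT y hy.1, hW'T y hy.2⟩
      rcases hP W hWT (fun y hy => by
          obtain ⟨w, hw, rfl⟩ := (hle hy).2
          exact hXX w hw) with h | h
      · exact hWb h
      · exact hWt h
    have hsup : W ⊔ W' = ⊤ := by
      refine (hP (W ⊔ W') ?_ ?_).resolve_left fun h => hWb (le_bot_iff.1 (h ▸ le_sup_left))
      · intro y hy
        obtain ⟨a, ha, b, hb, rfl⟩ := Submodule.mem_sup.1 hy
        rw [map_add]
        exact Submodule.add_mem_sup (hWT a ha) (hW'T b hb)
      · intro y hy
        obtain ⟨a, ha, b, hb, rfl⟩ := Submodule.mem_sup.1 hy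
        obtain ⟨w, hw, rfl⟩ := hb
        rw [map_add, add_comm]
        exact Submodule.add_mem_sup (hXX w hw) ⟨a, ha, rfl⟩
    have hcompl : IsCompl W W' := ⟨disjoint_iff.2 hinf, codisjoint_iff.2 hsup⟩
    let Wf : Bool → Submodule (ZMod q) V := fun b => cond b W W'
    let π : Bool → V →ₗ[ZMod q] V := fun b =>
      cond b (W.projection W' hcompl) (W'.projection W hcompl.symm)
    have hperm : ∀ u ∈ (P : Subgroup H), ∀ b, ∃ b', ∀ y ∈ Wf b, ρ u y ∈ Wf b' := by
      intro u hu b
      rcases hprod ⟨u, hu⟩ with h | h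
      · refine ⟨b, ?_⟩
        cases b
        · exact fun y hy => hCinv W' hW'T _ h y hy
        · exact fun y hy => hCinv W hWT _ h y hy
      · refine ⟨!b, fun y hy => ?_⟩
        have e : ρ u y = X (ρ ((x⁻¹ * ⟨u, hu⟩ : (P : Subgroup H)) : H) y) := by
          simp only [Subgroup.coe_mul, Subgroup.coe_inv, map_mul, Module.End.mul_apply]
          exact (rho_apply_inv ρ _ _).symm
        rw [e]
        cases b
        · obtain ⟨w, hw, hwe⟩ := hCinv W' hW'T _ h y hy
          rw [← hwe]
          exact hXX w hw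
        · exact ⟨_, hCinv W hWT _ h y hy, rfl⟩
    refine no_blocks hρ hperf P (ι := Bool) rfl Wf π ?_ ?_ ?_ hperm ?_
    · rintro (_ | _) y hy
      · exact Submodule.projection_apply_of_mem_left hcompl.symm hy
      · exact Submodule.projection_apply_of_mem_left hcompl hy
    · rintro (_ | _) (_ | _) hne y hy
      · exact absurd rfl hne
      · exact Submodule.IsCompl.projection_apply_of_mem_right hcompl.symm hy
      · exact Submodule.IsCompl.projection_apply_of_mem_right hcompl hy
      · exact absurd rfl hne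
    · rintro (_ | _)
      · intro h
        apply hWb
        rw [Submodule.eq_bot_iff]
        intro y hy
        have h1 : X y ∈ W' := ⟨y, hy, rfl⟩
        rw [show W' = ⊥ from h, Submodule.mem_bot] at h1
        exact rho_injective ρ _ (h1.trans (map_zero _).symm)
      · exact hWb
    · rintro (_ | _) (_ | _)
      · exact ⟨1, one_mem _, fun y hy => by simpa using hy⟩
      · exact ⟨(x : H), x.2, fun y ⟨w, hw, hwe⟩ => hwe ▸ hXX w hw⟩
      · exact ⟨(x : H), x.2, fun y hy => ⟨y, hy, rfl⟩⟩
      · exact ⟨1, one_mem _, fun y hy => by simpa using hy⟩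
  -- the degree is at most two
  obtain ⟨kk, hk⟩ : ∃ kk, orderOf c = 2 ^ kk := IsPGroup.iff_orderOf.1 P.2 c
  have hk2 : 2 ≤ kk := by
    rw [hk] at h4
    exact (Nat.pow_dvd_pow_iff_le_right (by norm_num)).1 (show 2 ^ 2 ∣ 2 ^ kk from h4)
  have hq2 : q ≠ 2 := by
    intro e
    apply hcop
    rw [e]
    exact ((dvd_trans (by norm_num) h4 : 2 ∣ orderOf c).trans (orderOf_dvd_natCard c)).trans
      (Subgroup.card_subgroup_dvd_card _)
  have hd := finrank_le_two hq2 T X hk2
    (by rw [orderOf_injective ρ hinj, Subgroup.orderOf_coe, hk])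
    (by exact (Group.isUnit (x : H)).map ρ)
    (by
      show ρ (x : H) * ρ (c : H) = ρ (c : H) ^ j * ρ (x : H)
      rw [← map_pow, ← map_mul, ← map_mul, ← Subgroup.coe_pow, ← hconj]
      simp)
    hj
    (by show ρ (c : H) ^ (j * j) = ρ (c : H); rw [← map_pow, ← Subgroup.coe_pow, hjj])
    hCirr
  haveI : Module.Finite (ZMod q) V := Module.Finite.of_finite
  rcases Nat.lt_or_ge (Module.finrank (ZMod q) V) 2 with h1 | h2
  · -- a line
    have h1' : Module.finrank (ZMod q) V = 1 := by
      have := Module.finrank_pos (R := ZMod q) (M := V); omega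
    refine isSolvable_of_comm hperf fun a b => hinj ?_
    obtain ⟨v, hv, hspan⟩ := finrank_eq_one_iff'.1 h1'
    obtain ⟨s, hs⟩ := hspan (ρ a v)
    obtain ⟨t, ht⟩ := hspan (ρ b v)
    refine LinearMap.ext fun y => ?_
    obtain ⟨r, rfl⟩ := hspan y
    rw [map_mul, map_mul, map_smul, map_smul, Module.End.mul_apply, Module.End.mul_apply, ← ht,
      map_smul, ← hs, map_smul, ← ht, smul_smul, smul_smul, smul_smul, smul_smul]
    ring_nf
  -- a plane: the group is semiregular
  have hd2 : Module.finrank (ZMod q) V = 2 := le_antisymm hd h2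
  obtain ⟨v, hv⟩ := exists_ne (0 : V)
  obtain ⟨a, ha⟩ := hρ v
  have hbot : stab ρ v = ⊥ := by
    rw [Subgroup.eq_bot_iff_forall]
    intro h hh
    have h1 := pow_q_eq_one hd2 (ρ h) (det_eq_one ρ hperf h) hv (mem_stab.1 hh)
    rw [← map_pow, ← map_one ρ] at h1
    rcases (Nat.dvd_prime Fact.out).1 (orderOf_dvd_of_pow_eq_one (hinj h1)) with e | e
    · exact orderOf_eq_one_iff.1 e
    · exact absurd (e ▸ orderOf_dvd_natCard h) hcop
  rw [hbot, Subgroup.index_bot] at ha
  haveI := (IsPGroup.of_card (p := 2) ha).isNilpotent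
  exact not_perfect_of_isSolvable hperf

/-- The action on an invariant subspace. -/
def restrictRep {H : Type u} [Group H] {V : Type v} [AddCommGroup V] [Module (ZMod q) V]
    (ρ : Representation (ZMod q) H V) (U : Submodule (ZMod q) V)
    (hU : ∀ h : H, ∀ x ∈ U, ρ h x ∈ U) : Representation (ZMod q) H U where
  toFun h := (ρ h).restrict (hU h)
  map_one' := by ext x; simp [LinearMap.restrict_apply]
  map_mul' a b := by ext x; simp [LinearMap.restrict_apply]

theorem restrictRep_apply {H : Type u} [Group H] {V : Type v} [AddCommGroup V] [Module (ZMod q) V]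
    (ρ : Representation (ZMod q) H V) (U : Submodule (ZMod q) V)
    (hU : ∀ h : H, ∀ x ∈ U, ρ h x ∈ U) (h : H) (x : U) :
    (restrictRep ρ U hU h x : V) = ρ h x := rfl

/-- Dividing out the kernel of a representation. -/
theorem exists_faithful_quotient {p : ℕ} (hp : p.Prime) {H : Type u} [Group H] [Finite H]
    {W : Type v} [AddCommGroup W] [Module (ZMod q) W] (σ : Representation (ZMod q) H W)
    (hσ : ∀ y : W, ∃ a : ℕ, (stab σ y).index = p ^ a) :
    ∃ (N : Subgroup H) (_ : N.Normal) (σ' : Representation (ZMod q) (H ⧸ N) W),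
      Function.Injective σ' ∧ PowerOrbit p σ' ∧ ∀ (h : H) (y : W), σ' (h : H ⧸ N) y = σ h y := by
  let r : H →* Module.End (ZMod q) W := σ
  refine ⟨r.ker, inferInstance, QuotientGroup.lift r.ker r (fun h hh => hh), ?_, ?_, ?_⟩
  · intro a b e
    induction a using QuotientGroup.induction_on with | H a => ?_
    induction b using QuotientGroup.induction_on with | H b => ?_
    rw [QuotientGroup.eq, MonoidHom.mem_ker, map_mul]
    have e' : r a = r b := e
    rw [← e', ← map_mul, inv_mul_cancel, map_one]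
  · intro y
    obtain ⟨a, ha⟩ := hσ y
    have hle : stab σ y ≤
        (stab (QuotientGroup.lift r.ker r (fun h hh => hh)) y).comap (QuotientGroup.mk' r.ker) :=
      fun h hh => hh
    have hdvd := Subgroup.index_dvd_of_le hle
    rw [Subgroup.index_comap_of_surjective _ (QuotientGroup.mk'_surjective _), ha] at hdvd
    obtain ⟨b, -, hb⟩ := (Nat.dvd_prime_pow hp).1 hdvd
    exact ⟨b, hb⟩
  · exact fun h y => rfl

/-- The invariant proper subspaces give solvable quotients of the group. -/
theorem exists_quotient_rep {p : ℕ} (hp : p.Prime) {H : Type u} [Group H] [Finite H] {V : Type v}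
    [AddCommGroup V] [Module (ZMod q) V] [Finite V] {ρ : Representation (ZMod q) H V}
    (hρ : PowerOrbit p ρ) (U : Submodule (ZMod q) V) (hU : ∀ h : H, ∀ x ∈ U, ρ h x ∈ U) :
    ∃ (N : Subgroup H) (_ : N.Normal) (σ : Representation (ZMod q) (H ⧸ N) U),
      Function.Injective σ ∧ PowerOrbit p σ ∧ ∀ h ∈ N, ∀ x ∈ U, ρ h x = x := by
  obtain ⟨N, hN, σ, h1, h2, h3⟩ :=
    exists_faithful_quotient (q := q) hp (restrictRep ρ U hU) fun y => by
      obtain ⟨a, ha⟩ := hρ (y : V)
      refine ⟨a, ?_⟩
      rw [← ha]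
      congr 1
      exact Subgroup.ext fun h => ⟨fun hh => congrArg Subtype.val hh, fun hh => Subtype.ext hh⟩
  refine ⟨N, hN, σ, h1, h2, fun h hh x hx => ?_⟩
  have h4 := h3 h ⟨x, hx⟩
  rw [(QuotientGroup.eq_one_iff h).2 hh, map_one] at h4
  exact (congrArg Subtype.val h4).symm

/-- A coprime linear group all of whose orbits have size a power of one prime is solvable. -/
theorem isSolvable_of_powerOrbit_aux {p : ℕ} [Fact p.Prime] :
    ∀ (n : ℕ) (H : Type u) [Group H] [Finite H] (V : Type v) [AddCommGroup V] [Module (ZMod q) V]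
      [Finite V], Nat.card H * Nat.card V = n → ∀ ρ : Representation (ZMod q) H V,
      Function.Injective ρ → ¬ q ∣ Nat.card H → PowerOrbit p ρ → Group.IsSolvable H ∧ True := by
  intro n
  induction n using Nat.strong_induction_on with
  | _ n ih =>
  intro H _ _ V _ _ _ hn ρ hinj hcop hρ
  classical
  subst hn
  have hp : p.Prime := Fact.out
  refine ⟨?_, trivial⟩
  rcases subsingleton_or_nontrivial H with hH | hH
  · infer_instance
  have hnsol : ∀ N : Subgroup H, N.Normal → N ≠ ⊤ → Group.IsSolvable N := by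
    intro N hN hNt
    refine (ih (Nat.card N * Nat.card V) ?_ N V rfl (ρ.comp N.subtype)
      (hinj.comp N.subtype_injective)
      (fun h => hcop (h.trans (Subgroup.card_subgroup_dvd_card N))) (restrict hp hρ N)).1
    exact Nat.mul_lt_mul_of_pos_right
      (lt_of_le_of_ne (Subgroup.card_le_card_group N) fun e => hNt (Subgroup.eq_top_of_card_eq N e))
      Nat.card_pos
  by_cases hperf : commutator H = ⊤
  swap
  · haveI := hnsol (commutator H) inferInstance hperf
    exact Group.isSolvable_of_ker_le_range (commutator H).subtype Abelianization.of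
      (by rw [Abelianization.ker_of, Subgroup.range_subtype])
  exfalso
  -- the module is nontrivial
  haveI : Nontrivial V := by
    by_contra hc
    rw [not_nontrivial_iff_subsingleton] at hc
    obtain ⟨h, hh⟩ := exists_ne (1 : H)
    exact hh (hinj (LinearMap.ext fun x => Subsingleton.elim _ _))
  -- irreducibility
  have hirrH : ∀ W : Submodule (ZMod q) V, (∀ h : H, ∀ x ∈ W, ρ h x ∈ W) → W = ⊥ ∨ W = ⊤ := by
    intro W hW
    by_contra hc
    push Not at hc
    obtain ⟨hWb, hWt⟩ := hc
    haveI : NeZero (Nat.card H : ZMod q) := ⟨by rwa [Ne, ZMod.natCast_eq_zero_iff]⟩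
    let S : Subrepresentation ρ := ⟨W, hW⟩
    obtain ⟨S', hS'⟩ := exists_isCompl S
    have hcompl : IsCompl W S'.toSubmodule := by
      refine ⟨disjoint_iff.2 ?_, codisjoint_iff.2 ?_⟩
      · exact congrArg Subrepresentation.toSubmodule (disjoint_iff.1 hS'.disjoint)
      · exact congrArg Subrepresentation.toSubmodule (codisjoint_iff.1 hS'.codisjoint)
    set W' := S'.toSubmodule with hW'def
    have hW' : ∀ h : H, ∀ x ∈ W', ρ h x ∈ W' := fun h x hx => S'.apply_mem_toSubmodule h hx
    have hW't : W' ≠ ⊤ := by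
      intro e
      apply hWb
      have := hcompl.disjoint
      rw [e] at this
      exact disjoint_top.1 this
    have hpart : ∀ U : Submodule (ZMod q) V, (hU : ∀ h : H, ∀ x ∈ U, ρ h x ∈ U) → U ≠ ⊤ →
        ∀ h : H, ∀ x ∈ U, ρ h x = x := by
      intro U hU hUt
      obtain ⟨N, hN, σ, hσ, hσo, hσN⟩ := exists_quotient_rep hp hρ U hU
      haveI := hN
      have hs : Group.IsSolvable (H ⧸ N) := by
        refine (ih (Nat.card (H ⧸ N) * Nat.card U) ?_ (H ⧸ N) U rfl σ hσ
          (fun h => hcop (h.trans (Subgroup.card_quotient_dvd_card N))) hσo).1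
        have h1 : Nat.card U < Nat.card V := by
          refine lt_of_le_of_ne (Nat.card_le_card_of_injective _ Subtype.val_injective) fun e => ?_
          apply hUt
          rw [eq_top_iff]
          intro y _
          obtain ⟨⟨z, hz⟩, rfl⟩ :=
            ((Nat.bijective_iff_injective_and_card _).2 ⟨Subtype.val_injective, e⟩).2 y
          exact hz
        calc Nat.card (H ⧸ N) * Nat.card U ≤ Nat.card H * Nat.card U :=
              Nat.mul_le_mul_right _
                (Nat.le_of_dvd Nat.card_pos (Subgroup.card_quotient_dvd_card N))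
          _ < Nat.card H * Nat.card V := Nat.mul_lt_mul_of_pos_left h1 Nat.card_pos
      intro h x hx
      have hker : N = ⊤ := by
        by_contra hne
        haveI := hs
        haveI : Nontrivial (H ⧸ N) := QuotientGroup.nontrivial_iff.2 hne
        refine not_perfect_of_isSolvable (H := H ⧸ N) ?_
        rw [commutator_def] at hperf ⊢
        have := congrArg (Subgroup.map (QuotientGroup.mk' N)) hperf
        rwa [Subgroup.map_commutator, Subgroup.map_top_of_surjective _
          (QuotientGroup.mk'_surjective _)] at this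
      exact hσN h (hker ▸ Subgroup.mem_top h) x hx
    obtain ⟨h, hh⟩ := exists_ne (1 : H)
    apply hh
    apply hinj
    rw [map_one]
    refine LinearMap.ext fun y => ?_
    obtain ⟨a, ha, b, hb, rfl⟩ := Submodule.mem_sup.1
      (show y ∈ W ⊔ W' from hcompl.sup_eq_top ▸ Submodule.mem_top)
    rw [map_add, hpart W hW hWt h a ha, hpart W' hW' hW't h b hb, Module.End.one_apply]
  obtain ⟨P⟩ : Nonempty (Sylow p H) := inferInstance
  have hirr : ∀ W : Submodule (ZMod q) V, (∀ u ∈ (P : Subgroup H), ∀ x ∈ W, ρ u x ∈ W) →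
      W = ⊥ ∨ W = ⊤ := fun W hW => hirrH W (invariant_of_sylow hρ P W hW)
  have hPne : (P : Subgroup H) ≠ ⊥ := by
    intro e
    obtain ⟨h, hh⟩ := exists_ne (1 : H)
    refine hh (hinj ((?_ : ρ h = 1).trans (map_one ρ).symm))
    refine LinearMap.ext fun x => ?_
    obtain ⟨u, hu, eq⟩ := factor hρ P h x
    rw [eq, show u = 1 from Subgroup.mem_bot.1 (e ▸ hu), map_one]
  have hpk : (p : ZMod q) ≠ 0 := by
    rw [Ne, ZMod.natCast_eq_zero_iff]
    intro hd
    have e := (Nat.prime_dvd_prime_iff_eq Fact.out hp).1 hd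
    subst e
    apply hcop
    obtain ⟨s, hs⟩ := IsPGroup.iff_card.1 P.2
    have hs0 : s ≠ 0 := fun h0 => hPne (Subgroup.eq_bot_of_card_eq _ (by
      rw [show Nat.card (P : Subgroup H) = q ^ s from hs, h0, pow_zero]))
    exact (dvd_pow_self q hs0).trans (hs ▸ Subgroup.card_subgroup_dvd_card (P : Subgroup H))
  rcases cyclic_or_two (p := p) P.2 (abelian_normal_cyclic hpk hinj hρ hperf P hirr) with
    hcyc | ⟨hp2, c, x, j, h1, h2, h3, h4⟩
  · exact cyclic_false hinj hcop hρ hperf hnsol P hirr hcyc
  · subst hp2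
    exact false_of_index_two hinj hcop hρ hperf P hirr c x j h1 h2 h3 h4

/-- A coprime linear group all of whose orbits have size a power of one prime is solvable. -/
theorem isSolvable_of_powerOrbit {p : ℕ} [Fact p.Prime] {H : Type u} [Group H] [Finite H]
    {V : Type v} [AddCommGroup V] [Module (ZMod q) V] [Finite V]
    (ρ : Representation (ZMod q) H V) (hinj : Function.Injective ρ) (hcop : ¬ q ∣ Nat.card H)
    (hρ : PowerOrbit p ρ) : Group.IsSolvable H :=
  (isSolvable_of_powerOrbit_aux _ H V rfl ρ hinj hcop hρ).1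

end CfsgLib.PowerOrbits
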